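/-
Characteristic two: the unipotent radical of a point stabiliser in a symplectic group, its elements written
as gel a w c : v ↦ v + f(v,a) w + f(v,w) a + c f(v,a) a, and complements of the transvection subgroup in it.
-/
import Cfsg.Agent.Lib.Transvec.AltMaximal
set_option autoImplicit false

namespace Cfsg.Agent.Dye

open scoped Matrix
open Matrix Cfsg.Agent.Transvec

variable {ι : Type} [Fintype ι] [DecidableEq ι] {F : Type*} [Field F] [CharP F 2]
variable {f : (ι → F) → (ι → F) → F} (hf : Geo.IsSymplecticForm f)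

omit [Fintype ι] [DecidableEq ι] in
theorem vadd_self (x : ι → F) : x + x = 0 := funext fun i => CharTwo.add_self_eq_zero (x i)

omit [Fintype ι] [DecidableEq ι] in
theorem vadd_cancel (x y : ι → F) : x + y + y = x := by rw [add_assoc, vadd_self, add_zero]

omit [Fintype ι] [DecidableEq ι] in
theorem eq_add_of_add_eq {x y z : ι → F} (h : x + y = z) : x = z + y := by rw [← h, vadd_cancel]

/-- The element v ↦ v + f(v,a) w + f(v,w) a + c f(v,a) a for w orthogonal to a. -/
noncomputable def gel (a w : ι → F) (c : F) : GL ι F :=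
  stv hf (a + w) 1 * stv hf w 1 * stv hf a (1 + c)

section
include hf

omit [Fintype ι] [DecidableEq ι] in
theorem f_symm (x y : ι → F) : f x y = f y x := by rw [hf.skew x y, CharTwo.neg_eq]

theorem mv_gel {a w : ι → F} (h : f w a = 0) (c : F) (v : ι → F) :
    mv (gel hf a w c) v = v + f v a • w + (f v w + c * f v a) • a := by
  have h' : f a w = 0 := by rw [f_symm hf, h]
  rw [gel, mv_mul, mv_mul, mv_stv, mv_stv, mv_stv]
  simp only [hf.bilinear.add_left, hf.bilinear.add_right, hf.bilinear.smul_left, hf.alternating, h, h']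
  funext i
  simp only [Pi.add_apply, Pi.smul_apply, smul_eq_mul]
  ring_nf
  simp [CharTwo.two_eq_zero]

omit [CharP F 2] in
theorem gel_mem (a w : ι → F) (c : F) : gel hf a w c ∈ preserving (Units.coeHom (Matrix ι ι F)) f :=
  Subgroup.mul_mem _ (Subgroup.mul_mem _ (stv_mem hf _ _) (stv_mem hf _ _)) (stv_mem hf _ _)

theorem gel_zero (a : ι → F) (c : F) : gel hf a 0 c = stv hf a c := by
  refine ext_mv fun v => ?_
  rw [mv_gel hf (f_zero_left hf a), mv_stv, f_zero_right hf]
  simp

theorem gel_mul {a w w' : ι → F} (h : f w a = 0) (h' : f w' a = 0) (c c' : F) :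
    gel hf a w c * gel hf a w' c' = gel hf a (w + w') (c + c' + f w w') := by
  have hs : f (w + w') a = 0 := by rw [hf.bilinear.add_left, h, h', add_zero]
  refine ext_mv fun v => ?_
  rw [mv_mul, mv_gel hf h, mv_gel hf h', mv_gel hf hs]
  have ha : f a w = 0 := by rw [f_symm hf, h]
  simp only [hf.bilinear.add_left, hf.bilinear.smul_left, hf.bilinear.add_right, hf.alternating, h', ha,
    f_symm hf w' w]
  module

theorem gel_sq {a w : ι → F} (h : f w a = 0) (c : F) : gel hf a w c * gel hf a w c = 1 := by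
  rw [gel_mul hf h h, vadd_self, CharTwo.add_self_eq_zero, hf.alternating, add_zero, gel_zero, stv_zero]

theorem gel_inv {a w : ι → F} (h : f w a = 0) (c : F) : (gel hf a w c)⁻¹ = gel hf a w c :=
  inv_eq_of_mul_eq_one_right (gel_sq hf h c)

theorem gel_mul_stv {a w : ι → F} (h : f w a = 0) (c d : F) :
    gel hf a w c * stv hf a d = gel hf a w (c + d) := by
  rw [← gel_zero hf a d, gel_mul hf h (f_zero_left hf a), f_zero_right hf]
  simp

theorem stv_mul_gel {a w : ι → F} (h : f w a = 0) (c d : F) :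
    stv hf a d * gel hf a w c = gel hf a w (d + c) := by
  rw [← gel_zero hf a d, gel_mul hf (f_zero_left hf a) h, f_zero_left hf]
  simp

theorem gel_add_smul {a w : ι → F} (h : f w a = 0) (c t : F) :
    gel hf a (w + t • a) c = gel hf a w c := by
  have hs : f (w + t • a) a = 0 := by rw [hf.bilinear.add_left, hf.bilinear.smul_left, h, hf.alternating]; simp
  refine ext_mv fun v => ?_
  rw [mv_gel hf hs, mv_gel hf h, hf.bilinear.add_right, hf.bilinear.smul_right]
  funext i
  simp only [Pi.add_apply, Pi.smul_apply, smul_eq_mul]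
  ring_nf
  simp [CharTwo.two_eq_zero]

theorem gel_smul {a w : ι → F} (h : f w a = 0) (l c : F) :
    gel hf (l • a) w c = gel hf a (l • w) (l * l * c) := by
  have h1 : f w (l • a) = 0 := by rw [hf.bilinear.smul_right, h, mul_zero]
  have h2 : f (l • w) a = 0 := by rw [hf.bilinear.smul_left, h, mul_zero]
  refine ext_mv fun v => ?_
  rw [mv_gel hf h1, mv_gel hf h2, hf.bilinear.smul_right, hf.bilinear.smul_right]
  module

omit [CharP F 2] in
theorem gel_conj {g : GL ι F} (hg : g ∈ preserving (Units.coeHom (Matrix ι ι F)) f) (a w : ι → F) (c : F) :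
    g * gel hf a w c * g⁻¹ = gel hf (mv g a) (mv g w) c := by
  have hg' : ∀ x y, f (mv g x) (mv g y) = 1 * f x y := fun x y => by rw [one_mul]; exact hg x y
  have e : ∀ v d, g * stv hf v d * g⁻¹ = stv hf (mv g v) d := fun v d => by
    rw [stv_conj hf one_ne_zero hg', div_one]
  rw [gel, gel, ← mv_add, ← e (a + w) 1, ← e w 1, ← e a (1 + c)]
  group

theorem mv_gel_self {a w : ι → F} (h : f w a = 0) (c : F) : mv (gel hf a w c) a = a := by
  rw [mv_gel hf h, hf.alternating, f_symm hf a w, h]
  simp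

theorem mv_gel_perp {a w v : ι → F} (h : f w a = 0) (hv : f v a = 0) (c : F) :
    mv (gel hf a w c) v = v + f v w • a := by
  rw [mv_gel hf h, hv]
  simp

theorem gel_eq_one {a w : ι → F} (h : f w a = 0) {c : F} {b : ι → F} (hab : f a b = 1) (hwb : f w b = 0)
    (he : gel hf a w c = 1) : w = 0 ∧ c = 0 := by
  have h1 := congrArg (fun g => mv g b) he
  simp only [mv_one, mv_gel hf h, f_symm hf b a, hab, f_symm hf b w, hwb, one_smul, zero_add, mul_one] at h1
  have h2 : w + c • a = 0 := by
    rw [add_assoc] at h1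
    exact left_eq_add.1 h1.symm
  have h3 := congrArg (fun x => f x b) h2
  simp only [hf.bilinear.add_left, hf.bilinear.smul_left, hwb, hab, f_zero_left hf] at h3
  obtain rfl : c = 0 := by simpa using h3
  simpa using h2

/-- Vectors orthogonal to a are determined modulo a by pairing. -/
theorem exists_pair {a u : ι → F} (hu : u ∉ Submodule.span F {a}) (r : F) :
    ∃ w, f w a = 0 ∧ f w u = r := by
  obtain ⟨z, hz1, hz2⟩ := exists_f_eq hf hu
  exact ⟨r • z, by rw [hf.bilinear.smul_left, f_symm hf z, hz2, mul_zero],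
    by rw [hf.bilinear.smul_left, f_symm hf z, hz1, mul_one]⟩

omit [Fintype ι] [DecidableEq ι] [CharP F 2] in
theorem not_mem_span {a b u : ι → F} (hab : f a b = 1) (hub : f u b = 0) (hu0 : u ≠ 0) :
    u ∉ Submodule.span F {a} := by
  rw [Submodule.mem_span_singleton]
  rintro ⟨t, rfl⟩
  rw [hf.bilinear.smul_left, hab, mul_one] at hub
  exact hu0 (by rw [hub, zero_smul])

omit [Fintype ι] [DecidableEq ι] in
/-- The component orthogonal to the pair a, b. -/
theorem decomp {a b : ι → F} (hab : f a b = 1) (v : ι → F) :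
    ∃ w, f w a = 0 ∧ f w b = 0 ∧ v = f v b • a + f v a • b + w := by
  refine ⟨v + f v b • a + f v a • b, ?_, ?_, ?_⟩
  · simp only [hf.bilinear.add_left, hf.bilinear.smul_left, hf.alternating, f_symm hf b a, hab, mul_zero,
      add_zero, mul_one, CharTwo.add_self_eq_zero]
  · simp only [hf.bilinear.add_left, hf.bilinear.smul_left, hf.alternating, hab, mul_zero,
      mul_one, CharTwo.add_self_eq_zero]
  · funext i
    simp only [Pi.add_apply, Pi.smul_apply, smul_eq_mul]
    ring_nf
    simp [CharTwo.two_eq_zero]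

end

/-! ### Complements of the transvections -/

/-- The group L contains, at the point a, the elements gel a w (φ w). -/
structure Pt (L : Subgroup (GL ι F)) (a : ι → F) (φ : (ι → F) → F) : Prop where
  add : ∀ v w, f v a = 0 → f w a = 0 → φ (v + w) = φ v + φ w + f v w
  rad : ∀ t : F, φ (t • a) = 0
  mem : ∀ w, f w a = 0 → gel hf a w (φ w) ∈ L

variable {hf} {L : Subgroup (GL ι F)} {a : ι → F} {φ : (ι → F) → F}

omit [CharP F 2] in
theorem Pt.zero (P : Pt hf L a φ) : φ 0 = 0 := by simpa using P.rad 0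

omit [CharP F 2] in
theorem Pt.add_smul (P : Pt hf L a φ) {w : ι → F} (hw : f w a = 0) (t : F) : φ (w + t • a) = φ w := by
  rw [P.add w _ hw (by rw [hf.bilinear.smul_left, hf.alternating, mul_zero]), P.rad, hf.bilinear.smul_right, hw]
  simp

omit [CharP F 2] in
theorem Pt.map (P : Pt hf L a φ) (hL : L ≤ preserving (Units.coeHom (Matrix ι ι F)) f) {h : GL ι F}
    (hh : h ∈ L) : Pt hf L (mv h a) (fun w => φ (mv h⁻¹ w)) := by
  have hi : ∀ x y, f (mv h⁻¹ x) (mv h⁻¹ y) = f x y := hL (L.inv_mem hh)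
  have hp : ∀ w, f w (mv h a) = 0 → f (mv h⁻¹ w) a = 0 := fun w hw => by
    rw [← hi, mv_inv_mv] at hw; exact hw
  refine ⟨fun v w hv hw => ?_, fun t => ?_, fun w hw => ?_⟩
  · rw [mv_add, P.add _ _ (hp v hv) (hp w hw), hi]
  · rw [mv_smul, mv_inv_mv, P.rad]
  · have h1 := gel_conj hf (hL hh) a (mv h⁻¹ w) (φ (mv h⁻¹ w))
    rw [mv_mv_inv] at h1
    rw [← h1]
    exact L.mul_mem (L.mul_mem hh (P.mem _ (hp w hw))) (L.inv_mem hh)

theorem Pt.smul (P : Pt hf L a φ) {l : F} (hl : l ≠ 0) :
    Pt hf L (l • a) (fun w => φ (l • w) / (l * l)) := by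
  have hp : ∀ w, f w (l • a) = 0 → f w a = 0 := fun w hw => by
    rw [hf.bilinear.smul_right] at hw; exact (mul_eq_zero.1 hw).resolve_left hl
  have hp' : ∀ w, f w a = 0 → f (l • w) a = 0 := fun w hw => by rw [hf.bilinear.smul_left, hw, mul_zero]
  refine ⟨fun v w hv hw => ?_, fun t => ?_, fun w hw => ?_⟩
  · rw [smul_add, P.add _ _ (hp' v (hp v hv)) (hp' w (hp w hw)), hf.bilinear.smul_left, hf.bilinear.smul_right]
    field_simp
  · rw [smul_smul, smul_smul, P.rad, zero_div]
  · rw [gel_smul hf (hp w hw), mul_div_cancel₀ _ (mul_ne_zero hl hl)]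
    exact P.mem _ (hp' w (hp w hw))

theorem Pt.stv_of_gel_mem (P : Pt hf L a φ) {w : ι → F} (hw : f w a = 0) {c : F}
    (h : gel hf a w c ∈ L) : stv hf a (φ w + c) ∈ L := by
  have := L.mul_mem (P.mem w hw) h
  rwa [gel_mul hf hw hw, vadd_self, hf.alternating, add_zero, gel_zero] at this

theorem Pt.gel_mem_of_stv (P : Pt hf L a φ) {w : ι → F} (hw : f w a = 0) {c : F}
    (h : stv hf a (φ w + c) ∈ L) : gel hf a w c ∈ L := by
  have := L.mul_mem (P.mem w hw) h
  rwa [gel_mul_stv hf hw, ← add_assoc, CharTwo.add_self_eq_zero, zero_add] at this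

theorem Pt.invariant (P : Pt hf L a φ) (hL : L ≤ preserving (Units.coeHom (Matrix ι ι F)) f) {g : GL ι F}
    (hg : g ∈ L) (hga : mv g a = a) {w : ι → F} (hw : f w a = 0) :
    stv hf a (φ (mv g w) + φ w) ∈ L := by
  have hw' : f (mv g w) a = 0 := by
    have h1 : f (mv g w) (mv g a) = f w a := hL hg w a
    rwa [hga, hw] at h1
  have h2 := L.mul_mem (L.mul_mem hg (P.mem w hw)) (L.inv_mem hg)
  rw [gel_conj hf (hL hg), hga] at h2
  exact P.stv_of_gel_mem hw' h2

end Cfsg.Agent.Dye
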