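/-
The parity of the rank of g - 1 in every dimension at least three, by adding a hyperbolic plane.
-/
import Cfsg.Agent.Lib.Transvec.OrthParity
set_option autoImplicit false

namespace Cfsg.Agent.Dye

open scoped Matrix
open Matrix Cfsg.Agent.Transvec Cfsg.Agent.Transvec.Orth

variable {ι : Type} [Fintype ι] [DecidableEq ι] {F : Type*} [Field F] {Q : (ι → F) → F}

/-- The vector with last two coordinates zero. -/
def extVec : (ι → F) →ₗ[F] (ι ⊕ Fin 2 → F) where
  toFun v := Sum.elim v 0
  map_add' v w := by ext (i | i) <;> simp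
  map_smul' c v := by ext (i | i) <;> simp

/-- g acting trivially on two further coordinates. -/
def extGL : GL ι F →* GL (ι ⊕ Fin 2) F :=
  Units.map
    { toFun := fun A : Matrix ι ι F => Matrix.fromBlocks A 0 0 (1 : Matrix (Fin 2) (Fin 2) F)
      map_one' := Matrix.fromBlocks_one
      map_mul' := fun A B => by simp [Matrix.fromBlocks_multiply] }

/-- Q plus a hyperbolic plane. -/
def extQ (Q : (ι → F) → F) (z : ι ⊕ Fin 2 → F) : F :=
  Q (fun i => z (.inl i)) + z (.inr 0) * z (.inr 1)

theorem mv_extGL (g : GL ι F) (z : ι ⊕ Fin 2 → F) :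
    mv (extGL g) z = Sum.elim (mv g fun i => z (.inl i)) (fun j => z (.inr j)) := by
  show Matrix.fromBlocks (g : Matrix ι ι F) 0 0 (1 : Matrix (Fin 2) (Fin 2) F) *ᵥ z = _
  rw [Matrix.fromBlocks_mulVec]
  simp [Function.comp_def]

omit [Fintype ι] [DecidableEq ι] in
theorem polar_extQ (x y : ι ⊕ Fin 2 → F) : QuadraticMap.polar (extQ Q) x y =
    QuadraticMap.polar Q (fun i => x (.inl i)) (fun i => y (.inl i)) + x (.inr 0) * y (.inr 1) +
      x (.inr 1) * y (.inr 0) := by
  simp only [QuadraticMap.polar, extQ, Pi.add_apply]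
  rw [show (fun i => x (.inl i) + y (.inl i)) = (fun i => x (Sum.inl i)) + fun i => y (Sum.inl i) from rfl]
  ring

variable (hQ : Geo.IsNondegenerateQuadraticForm Q)
include hQ

theorem extQ_nondeg : Geo.IsNondegenerateQuadraticForm (extQ Q) where
  smul c v := by
    simp only [extQ, Pi.smul_apply, smul_eq_mul]
    rw [show (fun i => c * v (Sum.inl i)) = c • fun i => v (Sum.inl i) from rfl, hQ.smul]
    ring
  polar_bilinear :=
    { add_left := fun x y v => by
        simp only [polar_extQ, Pi.add_apply]
        rw [show (fun i => x (.inl i) + y (.inl i)) = (fun i => x (Sum.inl i)) + fun i => y (Sum.inl i) from rfl,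
          hQ.polar_bilinear.add_left]
        ring
      smul_left := fun c x v => by
        simp only [polar_extQ, Pi.smul_apply, smul_eq_mul]
        rw [show (fun i => c * x (Sum.inl i)) = c • fun i => x (Sum.inl i) from rfl, hQ.polar_bilinear.smul_left]
        ring
      add_right := fun v x y => by
        simp only [polar_extQ, Pi.add_apply]
        rw [show (fun i => x (.inl i) + y (.inl i)) = (fun i => x (Sum.inl i)) + fun i => y (Sum.inl i) from rfl,
          hQ.polar_bilinear.add_right]
        ring
      smul_right := fun c v x => by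
        simp only [polar_extQ, Pi.smul_apply, smul_eq_mul]
        rw [show (fun i => c * x (Sum.inl i)) = c • fun i => x (Sum.inl i) from rfl, hQ.polar_bilinear.smul_right]
        ring }
  nondegenerate v hv := by
    have key : ∃ y, QuadraticMap.polar (extQ Q) y v ≠ 0 := by
      by_cases hl : (fun i => v (Sum.inl i)) = 0
      · by_cases h0 : v (.inr 0) = 0
        · have h1 : v (.inr 1) ≠ 0 := fun h1 => hv (funext fun i => by
            rcases i with i | j
            · exact congrFun hl i
            · fin_cases j <;> assumption)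
          refine ⟨Sum.elim 0 ![1, 0], ?_⟩
          rw [polar_extQ, hl]
          rw [show (fun i => Sum.elim (0 : ι → F) ![1, 0] (Sum.inl i)) = 0 from rfl,
            show QuadraticMap.polar Q 0 0 = 0 from pol_zero_left hQ 0]
          simpa using h1
        · refine ⟨Sum.elim 0 ![0, 1], ?_⟩
          rw [polar_extQ, hl]
          rw [show (fun i => Sum.elim (0 : ι → F) ![0, 1] (Sum.inl i)) = 0 from rfl,
            show QuadraticMap.polar Q 0 0 = 0 from pol_zero_left hQ 0]
          simpa using h0
      · obtain ⟨y, hy⟩ := (hQ.nondegenerate _ hl).1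
        exact ⟨extVec y, by simpa [polar_extQ, extVec] using hy⟩
    obtain ⟨y, hy⟩ := key
    exact ⟨⟨y, hy⟩, ⟨y, by rwa [QuadraticMap.polar_comm]⟩⟩

omit hQ in
theorem extGL_isometry {g : GL ι F} (hg : g ∈ isometryGroup F Q) : extGL g ∈ isometryGroup F (extQ Q) :=
  mem_isometry.2 fun z => by
    rw [mv_extGL, extQ, extQ]
    simp only [Sum.elim_inl, Sum.elim_inr]
    rw [mem_isometry.1 hg]

omit hQ in
theorem moveRank_extGL (g : GL ι F) : moveRank (extGL g) = moveRank g := by
  have hinj : Function.Injective (extVec : (ι → F) →ₗ[F] (ι ⊕ Fin 2 → F)) := fun x y h =>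
    funext fun i => congrFun h (.inl i)
  rw [moveRank, moveRank, show LinearMap.range (moveLin (extGL g)) = (LinearMap.range (moveLin g)).map extVec from ?_]
  · exact (LinearEquiv.finrank_eq (Submodule.equivMapOfInjective extVec hinj _)).symm
  ext z
  constructor
  · rintro ⟨w, rfl⟩
    refine ⟨_, ⟨fun i => w (.inl i), rfl⟩, ?_⟩
    rw [moveLin_apply, moveLin_apply, mv_extGL]
    funext i
    rcases i with i | i <;> simp [extVec]
  · rintro ⟨_, ⟨w, rfl⟩, rfl⟩
    refine ⟨extVec w, ?_⟩
    rw [moveLin_apply, moveLin_apply, mv_extGL]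
    funext i
    rcases i with i | i <;> simp [extVec]

/-- Parity is multiplicative. -/
theorem even_moveRank_mul' [Finite F] (hn : 3 ≤ Fintype.card ι) {g h : GL ι F} (hg : g ∈ isometryGroup F Q)
    (hh : h ∈ isometryGroup F Q) : Even (moveRank (g * h)) ↔ (Even (moveRank g) ↔ Even (moveRank h)) := by
  have := even_moveRank_mul (extQ_nondeg hQ) (by rw [Fintype.card_sum, Fintype.card_fin]; omega)
    (extGL_isometry hg) (extGL_isometry hh)
  rwa [← map_mul, moveRank_extGL, moveRank_extGL, moveRank_extGL] at this

/-- Siegel elements have even parity. -/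
theorem even_moveRank_siegel (hn : 3 ≤ Fintype.card ι) {g : GL ι F} {u y : ι → F} (hu : Q u = 0)
    (hy : pol Q u y = 0) (h : IsSiegel Q g u y) : Even (moveRank g) := by
  have hu' : extQ Q (extVec u) = 0 := by simp [extQ, extVec, hu]
  have hy' : pol (extQ Q) (extVec u) (extVec y) = 0 := by
    rw [pol, polar_extQ]; simpa [extVec] using hy
  have := (siegel_mem_parity (extQ_nondeg hQ) (by rw [Fintype.card_sum, Fintype.card_fin]; omega)
    (g := extGL g) hu' hy' (fun z => ?_)).2
  · rwa [moveRank_extGL] at this
  rw [mv_extGL, h]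
  simp only [pol, polar_extQ]
  funext i
  rcases i with i | i <;> simp [extQ, extVec]

end Cfsg.Agent.Dye
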