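/-
The key identity between the complements at two points, and the case with transvections: then the group is
the whole symplectic group.
-/
import Cfsg.Agent.Lib.DyeQuad.Basic
set_option autoImplicit false

namespace Cfsg.Agent.Dye

open scoped Matrix
open Matrix Cfsg.Agent.Transvec

variable {ι : Type} [Fintype ι] [DecidableEq ι] {F : Type*} [Field F] [CharP F 2]
variable {f : (ι → F) → (ι → F) → F} {hf : Geo.IsSymplecticForm f}
variable {L : Subgroup (GL ι F)} {a b u : ι → F} {φ ψ : (ι → F) → F}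

theorem exists_sq [Finite F] (x : F) : ∃ y, y * y = x := by
  obtain ⟨y, hy⟩ := FiniteField.isSquare_of_char_two (ringChar.eq F 2) x
  exact ⟨y, hy.symm⟩

theorem sq_inj {x y : F} (h : x * x = y * y) : x = y := by
  rcases mul_self_eq_mul_self_iff.1 h with h | h
  · exact h
  · rwa [CharTwo.neg_eq] at h

omit [CharP F 2] in
theorem stv_mem_map (hL : L ≤ preserving (Units.coeHom (Matrix ι ι F)) f) {h : GL ι F} (hh : h ∈ L)
    {v : ι → F} {c : F} (hc : stv hf v c ∈ L) : stv hf (mv h v) c ∈ L := by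
  have := stv_conj hf (g := h) one_ne_zero (fun x y => by rw [one_mul]; exact hL hh x y) v c
  rw [div_one] at this
  rw [← this]
  exact L.mul_mem (L.mul_mem hh hc) (L.inv_mem hh)

include hf in
theorem line_of_transvection (hL : L ≤ preserving (Units.coeHom (Matrix ι ι F)) f) (P : Pt hf L a φ)
    (hua : f u a = 0) (hu : u ∉ Submodule.span F {a}) {g : GL ι F} (hg : g ∈ L) (hga : mv g a = a) {d : F}
    (hd : d ≠ 0) {t : F} (hgw : ∀ w, f w a = 0 → mv g w = w + (d * f w u) • (u + t • a)) (k : F) :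
    stv hf a (φ (k • u) + k * k / d) ∈ L := by
  obtain ⟨w, hwa, hwu⟩ := exists_pair hf hu (k / d)
  have h := P.invariant hL hg hga hwa
  have hk : f (k • u) a = 0 := by rw [hf.bilinear.smul_left, hua, mul_zero]
  have hka : f (k • u + (k * t) • a) a = 0 := by
    rw [hf.bilinear.add_left, hk, hf.bilinear.smul_left, hf.alternating]; simp
  rw [hgw w hwa, hwu, mul_div_cancel₀ _ hd, smul_add, smul_smul, P.add w _ hwa hka, P.add_smul hk,
    hf.bilinear.add_right, hf.bilinear.smul_right, hf.bilinear.smul_right, hwu, hwa] at h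
  have e : φ w + φ (k • u) + (k * (k / d) + k * t * 0) + φ w = φ (k • u) + k * k / d := by
    ring_nf
    simp [CharTwo.two_eq_zero]
  rwa [e] at h

theorem mv_gel_other (hab : f a b = 1) (hua : f u a = 0) (hub : f u b = 0) (c : F) :
    mv (gel hf b u c) a = a + u + c • b := by
  rw [mv_gel hf hub, hab, f_symm hf a u, hua]
  simp

/-- The transvection pair attached to two points and a vector. -/
theorem key (hL : L ≤ preserving (Units.coeHom (Matrix ι ι F)) f) (P : Pt hf L a φ) (Q : Pt hf L b ψ)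
    (hab : f a b = 1) (hua : f u a = 0) (hub : f u b = 0) (hs : stv hf b (ψ u) ∈ L) (l : F) :
    stv hf a (φ (l • u)) * stv hf (a + u) (φ (l • u)) ∈ L := by
  have hh : gel hf b u 0 ∈ L := Q.gel_mem_of_stv hub (by rwa [add_zero])
  have hlua : f (l • u) a = 0 := by rw [hf.bilinear.smul_left, hua, mul_zero]
  have ha' : mv (gel hf b u 0) a = a + u := by rw [mv_gel_other hab hua hub]; simp
  have P' := P.map hL hh
  rw [ha'] at P'
  have hla : f (l • a) (a + u) = 0 := by
    rw [hf.bilinear.smul_left, hf.bilinear.add_right, hf.alternating, f_symm hf a u, hua]; simp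
  have h1 := P'.mem (l • a) hla
  have hd : φ (mv (gel hf b u 0)⁻¹ (l • a)) = φ (l • u) := by
    rw [gel_inv hf hub, mv_smul, ha', smul_add, add_comm, P.add_smul hlua]
  rw [hd] at h1
  have e : gel hf (a + u) (l • a) 0 = gel hf a (l • u) 0 := by
    refine ext_mv fun v => ?_
    rw [mv_gel hf hla, mv_gel hf hlua]
    simp only [hf.bilinear.add_right, hf.bilinear.smul_right]
    funext i
    simp only [Pi.add_apply, Pi.smul_apply, smul_eq_mul]
    ring_nf
    simp [CharTwo.two_eq_zero]
  have h2 := L.mul_mem (P.mem _ hlua) h1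
  have e1 : gel hf a (l • u) (φ (l • u)) = stv hf a (φ (l • u)) * gel hf a (l • u) 0 := by
    rw [stv_mul_gel hf hlua, add_zero]
  have e2 : gel hf (a + u) (l • a) (φ (l • u)) = gel hf (a + u) (l • a) 0 * stv hf (a + u) (φ (l • u)) := by
    rw [gel_mul_stv hf hla, zero_add]
  rw [e1, e2, e, mul_assoc, ← mul_assoc (gel hf a (l • u) 0), gel_sq hf hlua, one_mul] at h2
  exact h2

theorem pair_fix (hua : f u a = 0) (d : F) :
    mv (stv hf a d * stv hf (a + u) d) a = a ∧
      ∀ w, f w a = 0 → mv (stv hf a d * stv hf (a + u) d) w = w + (d * f w u) • (a + u) := by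
  have hau : f a (a + u) = 0 := by rw [hf.bilinear.add_right, hf.alternating, f_symm hf a u, hua, add_zero]
  refine ⟨by rw [mv_mul, stv_fix hf _ _ hau, stv_fix hf _ _ (hf.alternating a)], fun w hw => ?_⟩
  rw [mv_mul, mv_stv hf (a + u), hf.bilinear.add_right, hw, zero_add, stv_fix hf]
  rw [hf.bilinear.add_left, hf.bilinear.smul_left, hw, f_symm hf (a + u) a, hau]
  simp

theorem line_of_key (hL : L ≤ preserving (Units.coeHom (Matrix ι ι F)) f) (P : Pt hf L a φ) (hab : f a b = 1)
    (hua : f u a = 0) (hub : f u b = 0) (hu0 : u ≠ 0) {d : F} (hd : d ≠ 0)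
    (hd' : stv hf a d * stv hf (a + u) d ∈ L) (k : F) : stv hf a (φ (k • u) + k * k / d) ∈ L :=
  line_of_transvection hL P hua (not_mem_span hf hab hub hu0) hd' (pair_fix hua d).1 hd (t := 1)
    (fun w hw => by rw [one_smul, add_comm u a]; exact (pair_fix hua d).2 w hw) k

/-- A line in the perpendicular space meets the preimage of the transvection group. -/
theorem exists_line_kernel [Finite F] (Q : Pt hf L b ψ) (hR : ∃ r, r ≠ 0 ∧ stv hf b r ∈ L) (hub : f u b = 0) :
    ∃ l : F, l ≠ 0 ∧ stv hf b (ψ (l • u)) ∈ L := by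
  let R : AddSubgroup F :=
    { carrier := {c | stv hf b c ∈ L}
      add_mem' := fun {x y} hx hy => by
        show stv hf b (x + y) ∈ L
        rw [← stv_add]
        exact L.mul_mem hx hy
      zero_mem' := by show stv hf b 0 ∈ L; rw [stv_zero]; exact L.one_mem
      neg_mem' := fun {x} hx => by show stv hf b (-x) ∈ L; rw [CharTwo.neg_eq]; exact hx }
  let θ : F →+ F ⧸ R := AddMonoidHom.mk' (fun l => QuotientAddGroup.mk (ψ (l • u))) fun x y => by
    show QuotientAddGroup.mk (ψ ((x + y) • u)) = _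
    rw [add_smul, Q.add _ _ (by rw [hf.bilinear.smul_left, hub, mul_zero])
      (by rw [hf.bilinear.smul_left, hub, mul_zero]), hf.bilinear.smul_left, hf.bilinear.smul_right,
      hf.alternating]
    simp
  by_contra hcon
  push Not at hcon
  have hinj : Function.Injective θ := (injective_iff_map_eq_zero θ).2 fun l hl => by
    by_contra hl0
    exact hcon l hl0 ((QuotientAddGroup.eq_zero_iff _).1 hl)
  have h1 := Nat.card_le_card_of_injective θ hinj
  have h2 := AddSubgroup.card_eq_card_quotient_mul_card_addSubgroup R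
  obtain ⟨r, hr0, hr⟩ := hR
  have h3 : 1 < Nat.card R :=
    R.one_lt_card_iff_ne_bot.2 fun h => hr0 ((AddSubgroup.eq_bot_iff_forall R).1 h r hr)
  have h4 : 0 < Nat.card (F ⧸ R) := Nat.card_pos
  nlinarith

/-- One transvection at each of two points gives the whole transvection group. -/
theorem stv_full [Finite F] (hL : L ≤ preserving (Units.coeHom (Matrix ι ι F)) f) (P : Pt hf L a φ)
    (Q : Pt hf L b ψ) (hab : f a b = 1) (hua : f u a = 0) (hub : f u b = 0) (hu0 : u ≠ 0)
    (hRa : ∃ r, r ≠ 0 ∧ stv hf a r ∈ L) (hRb : ∃ r, r ≠ 0 ∧ stv hf b r ∈ L) (c : F) : stv hf a c ∈ L := by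
  obtain ⟨l, hl, hlu⟩ := exists_line_kernel Q hRb hub
  obtain ⟨x, hxa, hxb, hx0, hxs⟩ : ∃ x, f x a = 0 ∧ f x b = 0 ∧ x ≠ 0 ∧ stv hf b (ψ x) ∈ L :=
    ⟨l • u, by rw [hf.bilinear.smul_left, hua, mul_zero], by rw [hf.bilinear.smul_left, hub, mul_zero],
      smul_ne_zero hl hu0, hlu⟩
  have hh : gel hf b x 0 ∈ L := Q.gel_mem_of_stv hxb (by rwa [add_zero])
  have ha' : mv (gel hf b x 0) a = a + x := by rw [mv_gel_other hab hxa hxb]; simp
  set Pr : F → Prop := fun d => stv hf a d * stv hf (a + x) d ∈ L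
  have hPR : ∀ r, stv hf a r ∈ L → Pr r := fun r hr => by
    have := stv_mem_map hL hh hr
    rw [ha'] at this
    exact L.mul_mem hr this
  have hPk : ∀ k : F, Pr (φ (k • x)) := fun k => key hL P Q hab hxa hxb hxs k
  have hline : ∀ d, d ≠ 0 → Pr d → ∀ k, stv hf a (φ (k • x) + k * k / d) ∈ L := fun d hd hd' k =>
    line_of_key hL P hab hxa hxb hx0 hd hd' k
  obtain ⟨r, hr0, hr⟩ := hRa
  by_cases hne : ∀ d, d ≠ 0 → Pr d → d = r
  · have hR : ∀ s, stv hf a s ∈ L → s = 0 ∨ s = r := fun s hs => by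
      by_cases hs0 : s = 0
      · exact Or.inl hs0
      · exact Or.inr (hne s hs0 (hPR s hs))
    have hk : ∀ k : F, φ (k • x) = 0 ∨ φ (k • x) = r := fun k => by
      by_cases h0 : φ (k • x) = 0
      · exact Or.inl h0
      · exact Or.inr (hne _ h0 (hPk k))
    have hall : ∀ k : F, k = 0 ∨ k = r := fun k => by
      have hkr : k * k / r = 0 ∨ k * k / r = r := by
        rcases hR _ (hline r hr0 (hPR r hr) k) with e | e <;> rcases hk k with e' | e' <;> rw [e'] at e
        · exact Or.inl (by simpa using e)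
        · exact Or.inr (CharTwo.add_eq_zero.1 e).symm
        · exact Or.inr (by simpa using e)
        · exact Or.inl (left_eq_add.1 e.symm)
      rcases hkr with e | e
      · exact Or.inl (by simpa [hr0] using e)
      · exact Or.inr (sq_inj ((div_eq_iff hr0).1 e))
    rcases hall c with h | h <;> rw [h]
    · rw [stv_zero]; exact L.one_mem
    · exact hr
  · push Not at hne
    obtain ⟨d, hd, hd', hdr⟩ := hne
    have ht : (1 / d + 1 / r : F) ≠ 0 := by
      rw [ne_eq, CharTwo.add_eq_zero, one_div, one_div, _root_.inv_inj]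
      exact hdr
    obtain ⟨k, hk⟩ := exists_sq (c / (1 / d + 1 / r))
    have := L.mul_mem (hline d hd hd' k) (hline r hr0 (hPR r hr) k)
    rw [stv_add] at this
    convert this using 2
    rw [show φ (k • x) + k * k / d + (φ (k • x) + k * k / r) = k * k * (1 / d + 1 / r) by
      ring_nf; simp [CharTwo.two_eq_zero], hk, div_mul_cancel₀ _ ht]

/-- With transvections at two non-perpendicular points the group is the symplectic group. -/
theorem eq_sp_of_stv [Finite F] (hL : L ≤ preserving (Units.coeHom (Matrix ι ι F)) f) (P : Pt hf L a φ)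
    (Q : Pt hf L b ψ) (hab : f a b = 1) (hua : f u a = 0) (hub : f u b = 0) (hu0 : u ≠ 0)
    (hRa : ∃ r, r ≠ 0 ∧ stv hf a r ∈ L) (hRb : ∃ r, r ≠ 0 ∧ stv hf b r ∈ L) :
    L = preserving (Units.coeHom (Matrix ι ι F)) f := by
  have hba : f b a = 1 := by rw [f_symm hf, hab]
  have hA : a ∈ sCentres hf L := stv_full hL P Q hab hua hub hu0 hRa hRb
  have hB : b ∈ sCentres hf L := stv_full hL Q P hba hub hua hu0 hRb hRa
  have hQa : ∀ w c, f w a = 0 → gel hf a w c ∈ L := fun w c hw => P.gel_mem_of_stv hw (hA _)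
  have hQb : ∀ w c, f w b = 0 → gel hf b w c ∈ L := fun w c hw => Q.gel_mem_of_stv hw (hB _)
  have main : ∀ v, f v b ≠ 0 → v ∈ sCentres hf L := by
    intro v hv
    obtain ⟨w, hwa, hwb, hw⟩ := decomp hf hab v
    have h1 := sCentres_mv hf hL (hQb ((f v b)⁻¹ • w) ((f v b)⁻¹ * f v a)
      (by rw [hf.bilinear.smul_left, hwb, mul_zero])) hA
    rw [mv_gel_other hab (by rw [hf.bilinear.smul_left, hwa, mul_zero])
      (by rw [hf.bilinear.smul_left, hwb, mul_zero])] at h1
    have h2 := sCentres_smul hf h1 (f v b)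
    rw [smul_add, smul_add, smul_smul, smul_smul, mul_inv_cancel₀ hv, one_smul, ← mul_assoc,
      mul_inv_cancel₀ hv, one_mul] at h2
    rwa [hw, add_right_comm]
  refine sCentres_eq_univ hf hL fun v => ?_
  obtain ⟨w, hwa, hwb, hw⟩ := decomp hf hab v
  rcases ne_or_eq (f v b) 0 with h | h
  · exact main v h
  rcases eq_or_ne v 0 with rfl | hv0
  · intro c
    rw [show stv hf (0 : ι → F) c = 1 from ext_mv fun x => by simp [mv_stv, mv_one]]
    exact L.one_mem
  obtain ⟨g, hgL, hg⟩ : ∃ g ∈ L, f (mv g v) b ≠ 0 := by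
    by_cases hva : f v a = 0
    · obtain ⟨z, hza, hzv⟩ := exists_pair hf (a := a) (u := v) (not_mem_span hf hab h hv0) (1 : F)
      refine ⟨_, hQa z 0 hza, ?_⟩
      rw [mv_gel_perp hf hza hva, hf.bilinear.add_left, h, hf.bilinear.smul_left, f_symm hf v z, hzv, hab]
      simp
    · refine ⟨_, hA 1, ?_⟩
      rw [mv_stv, hf.bilinear.add_left, h, hf.bilinear.smul_left, hab]
      simpa using hva
  have h2 := sCentres_mv hf hL (L.inv_mem hgL) (main _ hg)
  rwa [mv_inv_mv] at h2

end Cfsg.Agent.Dye
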