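/-
Two field elements: if the complements at two points disagree, the group is transitive on the non-zero
vectors, and this is impossible in dimension at least six.
-/
import Cfsg.Agent.Lib.DyeQuad.Key
set_option autoImplicit false

namespace Cfsg.Agent.Dye

open scoped Matrix
open Matrix Cfsg.Agent.Transvec

variable {ι : Type} [Fintype ι] [DecidableEq ι] {F : Type*} [Field F] [CharP F 2]
variable {f : (ι → F) → (ι → F) → F} {hf : Geo.IsSymplecticForm f}
variable {L : Subgroup (GL ι F)} {a b c u v : ι → F} {φ ψ χ θ : (ι → F) → F}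

/-- No transvection with centre x lies in L. -/
def NoTrans (hf : Geo.IsSymplecticForm f) (L : Subgroup (GL ι F)) (x : ι → F) : Prop :=
  ∀ r, stv hf x r ∈ L → r = 0

omit [CharP F 2] in
theorem NoTrans.map (hL : L ≤ preserving (Units.coeHom (Matrix ι ι F)) f) (h : NoTrans hf L a) {g : GL ι F}
    (hg : g ∈ L) : NoTrans hf L (mv g a) := fun r hr => h r (by
  have := stv_mem_map hL (L.inv_mem hg) hr
  rwa [mv_inv_mv] at this)

omit [CharP F 2] in
theorem NoTrans.smul (h : NoTrans hf L a) {l : F} (hl : l ≠ 0) : NoTrans hf L (l • a) := fun r hr => by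
  rw [stv_smul] at hr
  simpa [hl] using h _ hr

theorem gel_swap (hf : Geo.IsSymplecticForm f) {x w : ι → F} (h : f w x = 0) :
    gel hf x w 0 = gel hf w x 0 := by
  refine ext_mv fun z => ?_
  rw [mv_gel hf h, mv_gel hf (show f x w = 0 by rw [f_symm hf, h])]
  module

/-- Values at perpendicular points agree. -/
theorem value_symm (hq : ∀ x : F, x = 0 ∨ x = 1) (P : Pt hf L a χ) (Q : Pt hf L c θ) (hA : NoTrans hf L a)
    (hC : NoTrans hf L c) (hac : f a c = 0) : χ c = θ a := by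
  have hca : f c a = 0 := by rw [f_symm hf, hac]
  have h := L.mul_mem (P.mem c hca) (Q.mem a hac)
  rw [show gel hf a c (χ c) = stv hf a (χ c) * gel hf a c 0 by rw [stv_mul_gel hf hca, add_zero],
    show gel hf c a (θ a) = gel hf c a 0 * stv hf c (θ a) by rw [gel_mul_stv hf hac, zero_add],
    ← gel_swap hf hca, mul_assoc, ← mul_assoc (gel hf a c 0), gel_sq hf hca, one_mul] at h
  rcases hq (χ c) with h1 | h1 <;> rcases hq (θ a) with h2 | h2 <;> rw [h1, h2] at h ⊢
  · rw [stv_zero, one_mul] at h; exact (one_ne_zero (hC 1 h)).elim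
  · rw [stv_zero, mul_one] at h; exact (one_ne_zero (hA 1 h)).elim

/-- Disagreement at one vector moves b to every vector not perpendicular to a. -/
theorem cover (hL : L ≤ preserving (Units.coeHom (Matrix ι ι F)) f) (hq : ∀ x : F, x = 0 ∨ x = 1)
    (P : Pt hf L a φ) (Q : Pt hf L b ψ) (hab : f a b = 1) (hua : f u a = 0) (hub : f u b = 0)
    (hφ : φ u = 1) (hψ : ψ u = 0) {z : ι → F} (hz : f z a ≠ 0) : ∃ g ∈ L, mv g b = z := by
  have hz1 : f z a = 1 := (hq _).resolve_left hz
  have hba : f b a = 1 := by rw [f_symm hf, hab]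
  have hbu : f b u = 0 := by rw [f_symm hf, hub]
  obtain ⟨x, hxa, hxb, hx⟩ := decomp hf hab z
  rw [hz1, one_smul] at hx
  have hbx : f b x = 0 := by rw [f_symm hf, hxb]
  have first : mv (gel hf a x (φ x)) b = φ x • a + b + x := by
    rw [mv_gel hf hxa, hba, hbx, zero_add, mul_one]; module
  by_cases hc : f z b = φ x
  · exact ⟨_, P.mem x hxa, by rw [first, hx, hc]⟩
  · have hs : stv hf b (ψ u) ∈ L := by rw [hψ, stv_zero]; exact L.one_mem
    have he := key hL P Q hab hua hub hs 1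
    rw [one_smul, hφ] at he
    have heb : mv (stv hf a 1 * stv hf (a + u) 1) b = b + u := by
      rw [mv_mul, mv_stv hf (a + u), hf.bilinear.add_right, hba, hbu, add_zero, one_mul, one_smul, mv_stv,
        hf.bilinear.add_left, hf.bilinear.add_left, hba, hf.alternating, hua, one_mul, add_zero, add_zero,
        one_smul, add_comm a u, ← add_assoc, vadd_cancel]
    have hxu : f (x + u) a = 0 := by rw [hf.bilinear.add_left, hxa, hua, add_zero]
    refine ⟨_, L.mul_mem (P.mem (x + u) hxu) he, ?_⟩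
    rw [mv_mul, heb, mv_gel hf hxu, P.add x u hxa hua, hφ]
    simp only [hf.bilinear.add_left, hf.bilinear.add_right, hf.alternating, hbx, hbu, hba, hua]
    have e : f z b = φ x + 1 := by
      rcases hq (f z b) with h1 | h1 <;> rcases hq (φ x) with h2 | h2 <;>
        simp [h1, h2, CharTwo.add_self_eq_zero] at hc ⊢
    rw [hx, e, f_symm hf u x]
    funext i
    simp only [Pi.add_apply, Pi.smul_apply, smul_eq_mul]
    ring_nf
    simp [CharTwo.two_eq_zero]

/-- Disagreement makes the group transitive on non-zero vectors. -/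
theorem transitive_of_ne (hL : L ≤ preserving (Units.coeHom (Matrix ι ι F)) f) (hq : ∀ x : F, x = 0 ∨ x = 1)
    (hirr : ∀ z ≠ 0, ∃ g ∈ L, f z (mv g a) ≠ 0) (hb : ∃ g ∈ L, mv g a = b)
    (P : Pt hf L a φ) (Q : Pt hf L b ψ) (hab : f a b = 1) (hua : f u a = 0) (hub : f u b = 0)
    (hne : ψ u ≠ φ u) {z : ι → F} (hz : z ≠ 0) : ∃ g ∈ L, mv g a = z := by
  obtain ⟨h, hh, hha⟩ := hb
  have hba : f b a = 1 := by rw [f_symm hf, hab]
  obtain ⟨d, g₀, hg₀, hd, hcov⟩ : ∃ d, ∃ g₀ ∈ L, mv g₀ a = d ∧ ∀ x, f x d ≠ 0 → ∃ g ∈ L, mv g a = x := by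
    rcases hq (φ u) with h1 | h1 <;> rcases hq (ψ u) with h2 | h2
    · exact absurd (h2.trans h1.symm) hne
    · exact ⟨b, h, hh, hha, fun x hx => cover hL hq Q P hba hub hua h2 h1 hx⟩
    · refine ⟨a, 1, L.one_mem, mv_one a, fun x hx => ?_⟩
      obtain ⟨g, hg, hgb⟩ := cover hL hq P Q hab hua hub h1 h2 hx
      exact ⟨g * h, L.mul_mem hg hh, by rw [mv_mul, hha, hgb]⟩
    · exact absurd (h2.trans h1.symm) hne
  obtain ⟨g, hg, hfg⟩ := hirr z hz
  have hk : g * g₀⁻¹ ∈ L := L.mul_mem hg (L.inv_mem hg₀)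
  obtain ⟨k, hk', hka⟩ := hcov (mv (g * g₀⁻¹)⁻¹ z) (by
    have e : f (mv (g * g₀⁻¹)⁻¹ z) (mv (g * g₀⁻¹)⁻¹ (mv g a)) = f z (mv g a) := hL (L.inv_mem hk) _ _
    rw [_root_.mul_inv_rev, inv_inv, mv_mul g₀ g⁻¹ (mv g a), mv_inv_mv, hd, ← mul_inv_rev'] at e
    rw [e]; exact hfg)
  exact ⟨g * g₀⁻¹ * k, L.mul_mem hk hk', by rw [mv_mul, hka, mv_mv_inv]⟩
where
  mul_inv_rev' {g g₀ : GL ι F} : (g * g₀⁻¹)⁻¹ = g₀ * g⁻¹ := by group

/-- A transitive group without transvections has equal complements in dimension at least six. -/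
theorem not_transitive (hL : L ≤ preserving (Units.coeHom (Matrix ι ι F)) f) (hq : ∀ x : F, x = 0 ∨ x = 1)
    (P : Pt hf L a φ) (hA : NoTrans hf L a) (hab : f a b = 1) (hua : f u a = 0) (hub : f u b = 0)
    (hva : f v a = 0) (hvb : f v b = 0) (huv : f u v = 0) (hu0 : u ≠ 0) (hv0 : v ≠ 0) (hne : u ≠ v)
    (htr : ∀ z ≠ 0, ∃ g ∈ L, mv g a = z) : False := by
  have get : ∀ z, z ≠ 0 → ∃ χ, Pt hf L z χ ∧ NoTrans hf L z := fun z hz => by
    obtain ⟨g, hg, rfl⟩ := htr z hz
    exact ⟨_, P.map hL hg, hA.map hL hg⟩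
  have hb0 : b ≠ 0 := fun h => by rw [h, f_zero_right hf] at hab; exact zero_ne_one hab
  have hab0 : a + b ≠ 0 := fun h => by
    have := congrArg (f a) h
    rw [hf.bilinear.add_right, hf.alternating, hab, f_zero_right hf, zero_add] at this
    exact one_ne_zero this
  have huv0 : u + v ≠ 0 := fun h => hne (by rw [← vadd_cancel u v, h, zero_add])
  obtain ⟨χb, Qb, hBb⟩ := get b hb0
  obtain ⟨χs, Qs, hBs⟩ := get (a + b) hab0
  obtain ⟨θu, Qu, hCu⟩ := get u hu0
  obtain ⟨θv, Qv, hCv⟩ := get v hv0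
  obtain ⟨θs, Qt, hCs⟩ := get (u + v) huv0
  have hau : f a u = 0 := by rw [f_symm hf, hua]
  have hav : f a v = 0 := by rw [f_symm hf, hva]
  have hbu : f b u = 0 := by rw [f_symm hf, hub]
  have hbv : f b v = 0 := by rw [f_symm hf, hvb]
  have c1 := P.add u v hua hva
  have c2 := Qb.add u v hub hvb
  have c3 := Qs.add u v (by rw [hf.bilinear.add_right, hua, hub, add_zero])
    (by rw [hf.bilinear.add_right, hva, hvb, add_zero])
  have d1 := Qu.add a b hau hbu
  have d2 := Qv.add a b hav hbv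
  have d3 := Qt.add a b (by rw [hf.bilinear.add_right, hau, hav, add_zero])
    (by rw [hf.bilinear.add_right, hbu, hbv, add_zero])
  have s11 := value_symm hq P Qu hA hCu hau
  have s12 := value_symm hq P Qv hA hCv hav
  have s13 := value_symm hq P Qt hA hCs (by rw [hf.bilinear.add_right, hau, hav, add_zero])
  have s21 := value_symm hq Qb Qu hBb hCu hbu
  have s22 := value_symm hq Qb Qv hBb hCv hbv
  have s23 := value_symm hq Qb Qt hBb hCs (by rw [hf.bilinear.add_right, hbu, hbv, add_zero])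
  have s31 := value_symm hq Qs Qu hBs hCu (by rw [hf.bilinear.add_left, hau, hbu, add_zero])
  have s32 := value_symm hq Qs Qv hBs hCv (by rw [hf.bilinear.add_left, hav, hbv, add_zero])
  have s33 := value_symm hq Qs Qt hBs hCs (by
    rw [hf.bilinear.add_left, hf.bilinear.add_right, hf.bilinear.add_right, hau, hav, hbu, hbv]; simp)
  rw [huv] at c1 c2 c3
  rw [hab] at d1 d2 d3
  apply one_ne_zero (α := F)
  linear_combination c1 + c2 + c3 - d1 - d2 - d3 - s13 - s23 - s33 + s11 + s12 + s21 + s22 + s31 + s32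
    - (1 + θs a + θs b - θu (a + b) - θv (a + b)) * (CharTwo.two_eq_zero (R := F))

end Cfsg.Agent.Dye
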