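/-
The quadratic form attached to two compatible complements, and its isometry group: the subgroup generated by
the two complements has index at most two.
-/
import Cfsg.Agent.Lib.DyeQuad.Two
import Cfsg.Agent.Lib.DyeQuad.Parity
set_option autoImplicit false

namespace Cfsg.Agent.Dye

open scoped Matrix
open Matrix Cfsg.Agent.Transvec

variable {ι : Type} [Fintype ι] [DecidableEq ι] {F : Type*} [Field F] [CharP F 2]
variable {f : (ι → F) → (ι → F) → F}

/-- φ is a quadratic form with polar form f on the space orthogonal to a and b. -/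
structure Comp (hf : Geo.IsSymplecticForm f) (a b : ι → F) (φ : (ι → F) → F) : Prop where
  hab : f a b = 1
  add : ∀ v w, f v a = 0 → f v b = 0 → f w a = 0 → f w b = 0 → φ (v + w) = φ v + φ w + f v w
  smul : ∀ v, f v a = 0 → f v b = 0 → ∀ l : F, φ (l • v) = l * l * φ v

/-- The component orthogonal to a and b. -/
def proj (f : (ι → F) → (ι → F) → F) (a b v : ι → F) : ι → F := v + f v b • a + f v a • b

/-- The quadratic form with a, b singular extending φ. -/
def qf (f : (ι → F) → (ι → F) → F) (a b : ι → F) (φ : (ι → F) → F) (v : ι → F) : F :=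
  f v b * f v a + φ (proj f a b v)

variable {hf : Geo.IsSymplecticForm f} {a b : ι → F} {φ : (ι → F) → F} (C : Comp hf a b φ)
include C

theorem Comp.swap : Comp hf b a φ where
  hab := by rw [f_symm hf, C.hab]
  add v w h1 h2 h3 h4 := C.add v w h2 h1 h4 h3
  smul v h1 h2 := C.smul v h2 h1

theorem Comp.qf_swap (v : ι → F) : qf f b a φ v = qf f a b φ v := by
  rw [qf, qf, proj, proj, mul_comm, add_assoc v, add_comm (f v a • b), ← add_assoc]

theorem Comp.proj_perp (v : ι → F) : f (proj f a b v) a = 0 ∧ f (proj f a b v) b = 0 := by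
  constructor <;>
  simp only [proj, hf.bilinear.add_left, hf.bilinear.smul_left, hf.alternating, C.hab, C.swap.hab, mul_zero,
    mul_one, add_zero, CharTwo.add_self_eq_zero]

theorem Comp.eq_combo (v : ι → F) : v = f v b • a + f v a • b + proj f a b v := by
  rw [proj]
  funext i
  simp only [Pi.add_apply, Pi.smul_apply, smul_eq_mul]
  ring_nf
  simp [CharTwo.two_eq_zero]

theorem Comp.combo_pair {w : ι → F} (hwa : f w a = 0) (hwb : f w b = 0) (x y : F) :
    f (x • a + y • b + w) b = x ∧ f (x • a + y • b + w) a = y ∧ proj f a b (x • a + y • b + w) = w := by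
  have e1 : f (x • a + y • b + w) b = x := by
    simp only [hf.bilinear.add_left, hf.bilinear.smul_left, hf.alternating, C.hab, hwb]; ring
  have e2 : f (x • a + y • b + w) a = y := by
    simp only [hf.bilinear.add_left, hf.bilinear.smul_left, hf.alternating, C.swap.hab, hwa]; ring
  refine ⟨e1, e2, ?_⟩
  rw [proj, e1, e2]
  funext i
  simp only [Pi.add_apply, Pi.smul_apply, smul_eq_mul]
  ring_nf
  simp [CharTwo.two_eq_zero]

theorem Comp.qf_combo {w : ι → F} (hwa : f w a = 0) (hwb : f w b = 0) (x y : F) :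
    qf f a b φ (x • a + y • b + w) = x * y + φ w := by
  obtain ⟨e1, e2, e3⟩ := C.combo_pair hwa hwb x y
  rw [qf, e1, e2, e3]

theorem Comp.zero : φ 0 = 0 := by
  have := C.smul 0 (f_zero_left hf a) (f_zero_left hf b) 0
  simpa using this

theorem Comp.qf_add (v w : ι → F) : qf f a b φ (v + w) = qf f a b φ v + qf f a b φ w + f v w := by
  have hv := C.proj_perp v
  have hw := C.proj_perp w
  have e : proj f a b (v + w) = proj f a b v + proj f a b w := by
    simp only [proj, hf.bilinear.add_left]; module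
  have hvw : f v w = f v b * f w a + f v a * f w b + f (proj f a b v) (proj f a b w) := by
    nth_rewrite 1 [C.eq_combo v]
    nth_rewrite 1 [C.eq_combo w]
    simp only [hf.bilinear.add_left, hf.bilinear.add_right, hf.bilinear.smul_left, hf.bilinear.smul_right,
      hf.alternating, C.hab, C.swap.hab, hv.1, hv.2, f_symm hf a (proj f a b w), f_symm hf b (proj f a b w),
      hw.1, hw.2]
    ring
  rw [qf, qf, qf, e, C.add _ _ hv.1 hv.2 hw.1 hw.2, hvw]
  simp only [hf.bilinear.add_left]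
  ring

theorem Comp.qf_smul (c : F) (v : ι → F) : qf f a b φ (c • v) = c ^ 2 * qf f a b φ v := by
  have hv := C.proj_perp v
  have e : proj f a b (c • v) = c • proj f a b v := by
    simp only [proj, hf.bilinear.smul_left]; module
  rw [qf, qf, e, C.smul _ hv.1 hv.2, hf.bilinear.smul_left, hf.bilinear.smul_left]
  ring

theorem Comp.polar_qf (x y : ι → F) : QuadraticMap.polar (qf f a b φ) x y = f x y := by
  rw [QuadraticMap.polar, C.qf_add]; ring

theorem Comp.nondeg : Geo.IsNondegenerateQuadraticForm (qf f a b φ) where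
  smul := C.qf_smul
  polar_bilinear := by
    rw [show QuadraticMap.polar (qf f a b φ) = f from funext₂ C.polar_qf]; exact hf.bilinear
  nondegenerate := by
    rw [show QuadraticMap.polar (qf f a b φ) = f from funext₂ C.polar_qf]; exact hf.nondegenerate

omit C in
/-- The group generated by the two complements. -/
def sgrp (hf : Geo.IsSymplecticForm f) (a b : ι → F) (φ : (ι → F) → F) : Subgroup (GL ι F) :=
  Subgroup.closure {g | ∃ w, f w a = 0 ∧ f w b = 0 ∧ (g = gel hf a w (φ w) ∨ g = gel hf b w (φ w))}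

omit C in
theorem gelA_mem {w : ι → F} (h1 : f w a = 0) (h2 : f w b = 0) : gel hf a w (φ w) ∈ sgrp hf a b φ :=
  Subgroup.subset_closure ⟨w, h1, h2, Or.inl rfl⟩

omit C in
theorem gelB_mem {w : ι → F} (h1 : f w a = 0) (h2 : f w b = 0) : gel hf b w (φ w) ∈ sgrp hf a b φ :=
  Subgroup.subset_closure ⟨w, h1, h2, Or.inr rfl⟩

omit C in
theorem sgrp_swap : sgrp hf b a φ = sgrp hf a b φ := by
  unfold sgrp
  congr 1
  ext g
  exact ⟨fun ⟨w, h1, h2, h⟩ => ⟨w, h2, h1, h.symm⟩, fun ⟨w, h1, h2, h⟩ => ⟨w, h2, h1, h.symm⟩⟩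

theorem Comp.mv_gelA {w x : ι → F} (hwa : f w a = 0) (hwb : f w b = 0) (hxa : f x a = 0) (c α β : F) :
    mv (gel hf a w c) (α • a + β • b + x) = (α + β * c + f x w) • a + β • b + (x + β • w) := by
  rw [mv_gel hf hwa]
  simp only [hf.bilinear.add_left, hf.bilinear.smul_left, hf.alternating, C.swap.hab, hxa, f_symm hf a w,
    f_symm hf b w, hwa, hwb]
  module

theorem Comp.mv_gelB {w x : ι → F} (hwa : f w a = 0) (hwb : f w b = 0) (hxb : f x b = 0) (c α β : F) :
    mv (gel hf b w c) (α • a + β • b + x) = α • a + (β + α * c + f x w) • b + (x + α • w) := by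
  rw [add_comm (α • a), C.swap.mv_gelA hwb hwa hxb, add_comm ((β + α * c + f x w) • b)]

theorem Comp.gelA_isometry {w : ι → F} (hwa : f w a = 0) (hwb : f w b = 0) (v : ι → F) :
    qf f a b φ (mv (gel hf a w (φ w)) v) = qf f a b φ v := by
  obtain ⟨hpa, hpb⟩ := C.proj_perp v
  have hxa : f (proj f a b v + f v a • w) a = 0 := by
    rw [hf.bilinear.add_left, hf.bilinear.smul_left, hpa, hwa]; simp
  have hxb : f (proj f a b v + f v a • w) b = 0 := by
    rw [hf.bilinear.add_left, hf.bilinear.smul_left, hpb, hwb]; simp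
  conv_lhs => rw [C.eq_combo v]
  rw [C.mv_gelA hwa hwb hpa, C.qf_combo hxa hxb, C.add _ _ hpa hpb
    (by rw [hf.bilinear.smul_left, hwa, mul_zero]) (by rw [hf.bilinear.smul_left, hwb, mul_zero]),
    C.smul w hwa hwb, hf.bilinear.smul_right, qf]
  ring_nf
  simp [CharTwo.two_eq_zero]

theorem Comp.sgrp_le : sgrp hf a b φ ≤ isometryGroup F (qf f a b φ) := by
  refine (Subgroup.closure_le _).2 ?_
  rintro g ⟨w, h1, h2, rfl | rfl⟩
  · exact Orth.mem_isometry.2 (C.gelA_isometry h1 h2)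
  · refine Orth.mem_isometry.2 fun v => ?_
    rw [← C.qf_swap, C.swap.gelA_isometry h2 h1, C.qf_swap]

omit [CharP F 2] C in
theorem exists_partner' (hf : Geo.IsSymplecticForm f) {w : ι → F} (hw : w ≠ 0) : ∃ y, f y w ≠ 0 :=
  (hf.nondegenerate w hw).1

theorem Comp.exists_pair_perp {w : ι → F} (hwa : f w a = 0) (hwb : f w b = 0) (hw : w ≠ 0) :
    ∃ y, f y a = 0 ∧ f y b = 0 ∧ f w y = 1 := by
  obtain ⟨z, hz⟩ := exists_partner' hf hw
  obtain ⟨hpa, hpb⟩ := C.proj_perp z
  have e : f z w = f (proj f a b z) w := by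
    nth_rewrite 1 [C.eq_combo z]
    simp only [hf.bilinear.add_left, hf.bilinear.smul_left, f_symm hf a w, f_symm hf b w, hwa, hwb]
    ring
  refine ⟨(f z w)⁻¹ • proj f a b z, by rw [hf.bilinear.smul_left, hpa, mul_zero],
    by rw [hf.bilinear.smul_left, hpb, mul_zero], ?_⟩
  rw [hf.bilinear.smul_right, f_symm hf w, ← e, inv_mul_cancel₀ hz]

theorem Comp.exists_value [Finite F] (hW : ∃ u, f u a = 0 ∧ f u b = 0 ∧ u ≠ 0) (c : F) :
    ∃ w, f w a = 0 ∧ f w b = 0 ∧ φ w = c := by
  obtain ⟨w, hwa, hwb, hw⟩ : ∃ w, f w a = 0 ∧ f w b = 0 ∧ φ w ≠ 0 := by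
    by_contra hcon
    push Not at hcon
    obtain ⟨u, hua, hub, hu⟩ := hW
    obtain ⟨y, hya, hyb, hy⟩ := C.exists_pair_perp hua hub hu
    have e := C.add u y hua hub hya hyb
    rw [hcon u hua hub, hcon y hya hyb, hcon _ (by rw [hf.bilinear.add_left, hua, hya, add_zero])
      (by rw [hf.bilinear.add_left, hub, hyb, add_zero]), hy] at e
    simp at e
  obtain ⟨l, hl⟩ := exists_sq (c / φ w)
  exact ⟨l • w, by rw [hf.bilinear.smul_left, hwa, mul_zero], by rw [hf.bilinear.smul_left, hwb, mul_zero],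
    by rw [C.smul w hwa hwb, hl, div_mul_cancel₀ _ hw]⟩

/-- The complements are transitive on the vectors with value one. -/
theorem Comp.move_one [Finite F] (hW : ∃ u, f u a = 0 ∧ f u b = 0 ∧ u ≠ 0) {v : ι → F}
    (hv : qf f a b φ v = 1) : ∃ s ∈ sgrp hf a b φ, mv s v = a + b := by
  have stepB : ∀ v, f v a ≠ 0 → qf f a b φ v = 1 → ∃ s ∈ sgrp hf a b φ, mv s v = a + b := by
    intro v hβ hv
    obtain ⟨hpa, hpb⟩ := C.proj_perp v
    set β := f v a
    set x := proj f a b v
    have hwa : f (β⁻¹ • x) a = 0 := by rw [hf.bilinear.smul_left, hpa, mul_zero]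
    have hwb : f (β⁻¹ • x) b = 0 := by rw [hf.bilinear.smul_left, hpb, mul_zero]
    obtain ⟨α', hα'⟩ : ∃ α' : F, mv (gel hf a (β⁻¹ • x) (φ (β⁻¹ • x))) v = α' • a + β • b + 0 := by
      refine ⟨f v b + β * φ (β⁻¹ • x) + f x (β⁻¹ • x), ?_⟩
      conv_lhs => rw [C.eq_combo v]
      rw [C.mv_gelA hwa hwb hpa, smul_smul, mul_inv_cancel₀ hβ, one_smul, vadd_self]
    have hαβ : α' * β = 1 := by
      have e := C.gelA_isometry hwa hwb v
      rw [hα', C.qf_combo (f_zero_left hf a) (f_zero_left hf b), C.zero, add_zero, hv] at e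
      exact e
    have hα0 : α' ≠ 0 := left_ne_zero_of_mul_eq_one hαβ
    obtain ⟨w, hwa', hwb', hw⟩ := C.exists_value hW ((1 + β) / α')
    have hw2a : f (α' • w) a = 0 := by rw [hf.bilinear.smul_left, hwa', mul_zero]
    have hw2b : f (α' • w) b = 0 := by rw [hf.bilinear.smul_left, hwb', mul_zero]
    refine ⟨_, Subgroup.mul_mem _ (gelA_mem hw2a hw2b) (Subgroup.mul_mem _ (gelB_mem hwa' hwb')
      (gelA_mem hwa hwb)), ?_⟩
    rw [mv_mul, mv_mul, hα', C.mv_gelB hwa' hwb' (f_zero_left hf b), hw, f_zero_left hf, add_zero, zero_add,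
      mul_div_cancel₀ _ hα0, show β + (1 + β) = 1 by rw [add_left_comm, CharTwo.add_self_eq_zero, add_zero],
      C.mv_gelA hw2a hw2b hw2a, hf.alternating, add_zero, one_mul, one_smul, one_smul, vadd_self, add_zero,
      C.smul w hwa' hwb', hw, show α' + α' * α' * ((1 + β) / α') = 1 from ?_, one_smul]
    field_simp
    linear_combination hαβ + α' * (CharTwo.two_eq_zero (R := F))
  by_cases hβ : f v a = 0
  swap
  · exact stepB v hβ hv
  obtain ⟨hpa, hpb⟩ := C.proj_perp v
  have hv' : v = f v b • a + (0 : F) • b + proj f a b v := by rw [← hβ]; exact C.eq_combo v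
  by_cases hα : f v b = 0
  · have hx : proj f a b v ≠ 0 := fun h => by
      have e := hv
      rw [qf, h, C.zero, hβ] at e
      simp at e
    obtain ⟨w, hwa, hwb, hxw⟩ := C.exists_pair_perp hpa hpb hx
    have hg : mv (gel hf a w (φ w)) v = (1 : F) • a + (0 : F) • b + proj f a b v := by
      conv_lhs => rw [hv']
      rw [C.mv_gelA hwa hwb hpa, hα, hxw]; simp
    set v₁ := mv (gel hf a w (φ w)) v
    obtain ⟨e1, e2, e3⟩ := C.combo_pair hpa hpb 1 0
    rw [← hg] at e1 e2 e3
    have hwb' : f (proj f a b v) a = 0 := hpa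
    have hq : qf f a b φ v₁ = 1 := by rw [C.gelA_isometry hwa hwb, hv]
    have hg2 : mv (gel hf b (proj f a b v) (φ (proj f a b v))) v₁ =
        (1 : F) • a + φ (proj f a b v) • b + 0 := by
      rw [hg, C.mv_gelB hpa hpb hpb, hf.alternating]; simp [vadd_self]
    have hq2 : qf f a b φ (mv (gel hf b (proj f a b v) (φ (proj f a b v))) v₁) = 1 := by
      rw [← C.qf_swap, C.swap.gelA_isometry hpb hpa, C.qf_swap, hq]
    have hne : φ (proj f a b v) ≠ 0 := fun h => by
      rw [hg2, C.qf_combo (f_zero_left hf a) (f_zero_left hf b), C.zero, h] at hq2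
      simp at hq2
    obtain ⟨s, hs, hsv⟩ := stepB _ (by
      rw [hg2, (C.combo_pair (f_zero_left hf a) (f_zero_left hf b) _ _).2.1]; exact hne) hq2
    exact ⟨_, Subgroup.mul_mem _ hs (Subgroup.mul_mem _ (gelB_mem hpa hpb) (gelA_mem hwa hwb)),
      by rw [mv_mul, mv_mul, hsv]⟩
  · set α := f v b
    set x := proj f a b v
    have hwa : f (α⁻¹ • x) a = 0 := by rw [hf.bilinear.smul_left, hpa, mul_zero]
    have hwb : f (α⁻¹ • x) b = 0 := by rw [hf.bilinear.smul_left, hpb, mul_zero]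
    have hg2 : mv (gel hf b (α⁻¹ • x) (φ (α⁻¹ • x))) v =
        α • a + (α * φ (α⁻¹ • x) + f x (α⁻¹ • x)) • b + 0 := by
      conv_lhs => rw [hv']
      rw [C.mv_gelB hwa hwb hpb, zero_add, smul_smul, mul_inv_cancel₀ hα, one_smul, vadd_self]
    have hq2 : qf f a b φ (mv (gel hf b (α⁻¹ • x) (φ (α⁻¹ • x))) v) = 1 := by
      rw [← C.qf_swap, C.swap.gelA_isometry hwb hwa, C.qf_swap, hv]
    obtain ⟨s, hs, hsv⟩ := stepB _ (by
      rw [hg2, (C.combo_pair (f_zero_left hf a) (f_zero_left hf b) _ _).2.1]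
      intro h
      rw [hg2, C.qf_combo (f_zero_left hf a) (f_zero_left hf b), C.zero, h] at hq2
      simp at hq2) hq2
    exact ⟨_, Subgroup.mul_mem _ hs (gelB_mem hwa hwb), by rw [mv_mul, hsv]⟩

/-- Every singular vector moves to a multiple of a or of b. -/
theorem Comp.move_zero {v : ι → F} (hv : qf f a b φ v = 0) (hv0 : v ≠ 0) :
    ∃ s ∈ sgrp hf a b φ, ∃ l : F, l ≠ 0 ∧ (mv s v = l • a ∨ mv s v = l • b) := by
  have stepA : ∀ v, f v b ≠ 0 → qf f a b φ v = 0 →
      ∃ s ∈ sgrp hf a b φ, ∃ l : F, l ≠ 0 ∧ mv s v = l • a := by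
    intro v hα hv
    obtain ⟨hpa, hpb⟩ := C.proj_perp v
    set α := f v b
    set x := proj f a b v
    have hwa : f (α⁻¹ • x) a = 0 := by rw [hf.bilinear.smul_left, hpa, mul_zero]
    have hwb : f (α⁻¹ • x) b = 0 := by rw [hf.bilinear.smul_left, hpb, mul_zero]
    obtain ⟨β', hβ'⟩ : ∃ β' : F, mv (gel hf b (α⁻¹ • x) (φ (α⁻¹ • x))) v = α • a + β' • b + 0 := by
      refine ⟨f v a + α * φ (α⁻¹ • x) + f x (α⁻¹ • x), ?_⟩
      conv_lhs => rw [C.eq_combo v]
      rw [C.mv_gelB hwa hwb hpb, smul_smul, mul_inv_cancel₀ hα, one_smul, vadd_self]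
    have e : qf f a b φ (mv (gel hf b (α⁻¹ • x) (φ (α⁻¹ • x))) v) = 0 := by
      rw [← C.qf_swap, C.swap.gelA_isometry hwb hwa, C.qf_swap, hv]
    rw [hβ', C.qf_combo (f_zero_left hf a) (f_zero_left hf b), C.zero, add_zero, mul_eq_zero] at e
    refine ⟨_, gelB_mem hwa hwb, α, hα, ?_⟩
    rw [hβ', e.resolve_left hα, zero_smul, add_zero, add_zero]
  by_cases hα : f v b = 0
  swap
  · obtain ⟨s, hs, l, hl, h⟩ := stepA v hα hv
    exact ⟨s, hs, l, hl, Or.inl h⟩
  obtain ⟨hpa, hpb⟩ := C.proj_perp v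
  have hv' := C.eq_combo v
  rw [hα, zero_smul, zero_add] at hv'
  by_cases hβ : f v a = 0
  · rw [hβ, zero_smul, zero_add] at hv'
    obtain ⟨w, hwa, hwb, hxw⟩ := C.exists_pair_perp hpa hpb (hv' ▸ hv0)
    have hg : mv (gel hf a w (φ w)) v = (1 : F) • a + (0 : F) • b + proj f a b v := by
      conv_lhs => rw [C.eq_combo v]
      rw [C.mv_gelA hwa hwb hpa, hα, hβ, hxw]; simp
    obtain ⟨s, hs, l, hl, h⟩ := stepA (mv (gel hf a w (φ w)) v)
      (by rw [hg, (C.combo_pair hpa hpb _ _).1]; exact one_ne_zero) (by rw [C.gelA_isometry hwa hwb, hv])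
    exact ⟨_, Subgroup.mul_mem _ hs (gelA_mem hwa hwb), l, hl, Or.inl (by rw [mv_mul, h])⟩
  · set β := f v a
    set x := proj f a b v
    have hwa : f (β⁻¹ • x) a = 0 := by rw [hf.bilinear.smul_left, hpa, mul_zero]
    have hwb : f (β⁻¹ • x) b = 0 := by rw [hf.bilinear.smul_left, hpb, mul_zero]
    obtain ⟨α', hα'⟩ : ∃ α' : F, mv (gel hf a (β⁻¹ • x) (φ (β⁻¹ • x))) v = α' • a + β • b + 0 := by
      refine ⟨f v b + β * φ (β⁻¹ • x) + f x (β⁻¹ • x), ?_⟩
      conv_lhs => rw [C.eq_combo v]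
      rw [C.mv_gelA hwa hwb hpa, smul_smul, mul_inv_cancel₀ hβ, one_smul, vadd_self]
    have e : qf f a b φ (mv (gel hf a (β⁻¹ • x) (φ (β⁻¹ • x))) v) = 0 := by
      rw [C.gelA_isometry hwa hwb, hv]
    rw [hα', C.qf_combo (f_zero_left hf a) (f_zero_left hf b), C.zero, add_zero, mul_eq_zero] at e
    refine ⟨_, gelA_mem hwa hwb, β, hβ, Or.inr ?_⟩
    rw [hα', e.resolve_right hβ, zero_smul, zero_add, add_zero]

/-- The reflection interchanging a and b. -/
theorem Comp.refl_swap : mv (stv hf (a + b) 1) a = b ∧ mv (stv hf (a + b) 1) b = a ∧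
    ∀ w, f w a = 0 → f w b = 0 → mv (stv hf (a + b) 1) w = w := by
  refine ⟨?_, ?_, fun w h1 h2 => stv_fix hf _ _ (by rw [hf.bilinear.add_right, h1, h2, add_zero])⟩
  · rw [mv_stv, hf.bilinear.add_right, hf.alternating, C.hab, zero_add, mul_one, one_smul, ← add_assoc,
      vadd_self, zero_add]
  · rw [mv_stv, hf.bilinear.add_right, hf.alternating, C.swap.hab, add_zero, mul_one, one_smul, add_comm a,
      ← add_assoc, vadd_self, zero_add]

omit C in
theorem stv_one_sq (v : ι → F) : stv hf v (1 : F) * stv hf v 1 = 1 := by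
  rw [stv_add, CharTwo.add_self_eq_zero, stv_zero]

theorem Comp.refl_conj {s : GL ι F} (hs : s ∈ sgrp hf a b φ) :
    stv hf (a + b) 1 * s * stv hf (a + b) 1 ∈ sgrp hf a b φ := by
  have hsq := stv_one_sq (hf := hf) (a + b)
  have hinv : (stv hf (a + b) (1 : F))⁻¹ = stv hf (a + b) 1 := inv_eq_of_mul_eq_one_right hsq
  obtain ⟨ha, hb, hw⟩ := C.refl_swap
  induction hs using Subgroup.closure_induction with
  | mem g hg =>
    obtain ⟨w, h1, h2, rfl | rfl⟩ := hg <;>
    · have := gel_conj hf (g := stv hf (a + b) 1) (stv_mem hf _ _)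
      rw [hinv] at this
      rw [this, hw w h1 h2]
      first
        | (rw [ha]; exact gelB_mem h1 h2)
        | (rw [hb]; exact gelA_mem h1 h2)
  | one => rw [mul_one, hsq]; exact Subgroup.one_mem _
  | mul x y _ _ hx hy =>
    have := Subgroup.mul_mem _ hx hy
    rwa [show stv hf (a + b) 1 * x * stv hf (a + b) 1 * (stv hf (a + b) 1 * y * stv hf (a + b) 1) =
      stv hf (a + b) 1 * x * (stv hf (a + b) 1 * stv hf (a + b) 1) * y * stv hf (a + b) 1 by group,
      hsq, mul_one, mul_assoc _ x y] at this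
  | inv x _ hx =>
    have := Subgroup.inv_mem _ hx
    rwa [_root_.mul_inv_rev, _root_.mul_inv_rev, hinv, ← mul_assoc] at this

theorem Comp.polar_left (z v : ι → F) : Orth.pol (qf f a b φ) z v = f z v := C.polar_qf z v

theorem Comp.isRefl_eq {r : GL ι F} {v : ι → F} (h : Orth.IsRefl (qf f a b φ) r v) :
    r = stv hf v (qf f a b φ v)⁻¹ :=
  ext_mv fun z => by
    rw [h.2, C.polar_left, mv_stv, sub_eq_add_neg, ← neg_smul, CharTwo.neg_eq, div_eq_inv_mul]

theorem Comp.refl_isometry : stv hf (a + b) (1 : F) ∈ isometryGroup F (qf f a b φ) := by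
  have hQ : qf f a b φ (a + b) = 1 := by
    have := C.qf_combo (f_zero_left hf a) (f_zero_left hf b) 1 1
    simpa [C.zero] using this
  obtain ⟨r, hr, hr'⟩ := Orth.exists_refl C.nondeg (a := a + b) (by rw [hQ]; exact one_ne_zero)
  rw [C.isRefl_eq hr', hQ, inv_one] at hr
  exact hr

/-- Every reflection lies in the coset of the base reflection. -/
theorem Comp.refl_coset [Finite F] (hW : ∃ u, f u a = 0 ∧ f u b = 0 ∧ u ≠ 0) {v : ι → F}
    (hv : qf f a b φ v ≠ 0) : stv hf (a + b) 1 * stv hf v (qf f a b φ v)⁻¹ ∈ sgrp hf a b φ := by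
  obtain ⟨c, hc⟩ := exists_sq (qf f a b φ v)⁻¹
  obtain ⟨s, hs, hsv⟩ := C.move_one hW (v := c • v) (by rw [C.qf_smul, pow_two, hc, inv_mul_cancel₀ hv])
  have hsI := C.sgrp_le hs
  have hsP : ∀ x y, f (mv s x) (mv s y) = 1 * f x y := fun x y => by
    rw [one_mul, ← C.polar_qf, ← C.polar_qf]
    exact Orth.pol_mv C.nondeg hsI x y
  have e : stv hf v (qf f a b φ v)⁻¹ = s⁻¹ * stv hf (a + b) 1 * s := by
    have h1 := stv_conj hf one_ne_zero hsP (c • v) 1
    rw [hsv, div_one, stv_smul, mul_one, hc] at h1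
    rw [← h1]; group
  rw [e, ← mul_assoc, ← mul_assoc]
  exact Subgroup.mul_mem _ (C.refl_conj (Subgroup.inv_mem _ hs)) hs

/-- The isometry group is the union of the generated group and one further coset. -/
theorem Comp.mem_or [Finite F] (hW : ∃ u, f u a = 0 ∧ f u b = 0 ∧ u ≠ 0) {g : GL ι F}
    (hg : g ∈ isometryGroup F (qf f a b φ)) :
    g ∈ sgrp hf a b φ ∨ stv hf (a + b) 1 * g ∈ sgrp hf a b φ := by
  have hsq := stv_one_sq (hf := hf) (a + b)
  set r := stv hf (a + b) (1 : F) with hr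
  let K : Subgroup (GL ι F) :=
    { carrier := {g | g ∈ sgrp hf a b φ ∨ r * g ∈ sgrp hf a b φ}
      mul_mem' := fun {x y} hx hy => by
        rcases hx with hx | hx <;> rcases hy with hy | hy
        · exact Or.inl (Subgroup.mul_mem _ hx hy)
        · refine Or.inr ?_
          have := Subgroup.mul_mem _ (C.refl_conj hx) hy
          rwa [← hr, mul_assoc (r * x), ← mul_assoc r r, hsq, one_mul, mul_assoc] at this
        · refine Or.inr ?_
          have := Subgroup.mul_mem _ hx hy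
          rwa [mul_assoc] at this
        · refine Or.inl ?_
          have := Subgroup.mul_mem _ (C.refl_conj hx) hy
          rwa [← hr, ← mul_assoc r r, hsq, one_mul, mul_assoc x r, ← mul_assoc r r, hsq, one_mul] at this
      one_mem' := Or.inl (Subgroup.one_mem _)
      inv_mem' := fun {x} hx => by
        rcases hx with hx | hx
        · exact Or.inl (Subgroup.inv_mem _ hx)
        · refine Or.inr ?_
          have := C.refl_conj (Subgroup.inv_mem _ hx)
          rwa [← hr, _root_.mul_inv_rev, mul_assoc r, inv_mul_cancel_right] at this }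
  have hrefl : ∀ v, qf f a b φ v ≠ 0 → stv hf v (qf f a b φ v)⁻¹ ∈ K := fun v hv => Or.inr (C.refl_coset hW hv)
  have hrK : r ∈ K := Or.inr (by rw [hsq]; exact Subgroup.one_mem _)
  refine (Orth.isometry_le C.nondeg).trans ((Subgroup.closure_le K).2 ?_) hg
  rintro g (hg | ⟨-, v, hv⟩)
  swap
  · rw [C.isRefl_eq hv]
    exact hrefl v hv.1
  refine (Subgroup.closure_le K).2 ?_ hg
  rintro s ⟨u, y, hu, hy, hs⟩
  rcases eq_or_ne u 0 with rfl | hu0
  · rw [show s = 1 from ext_mv fun z => by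
      rw [hs, mv_one, Orth.pol_zero_right C.nondeg, zero_smul, smul_zero, add_zero, sub_zero]]
    exact K.one_mem
  obtain ⟨k, hk, l, hl, hku⟩ : ∃ k ∈ K, ∃ l : F, l ≠ 0 ∧ mv k u = l • a := by
    obtain ⟨t, ht, l, hl, h | h⟩ := C.move_zero hu hu0
    · exact ⟨t, Or.inl ht, l, hl, h⟩
    · exact ⟨r * t, K.mul_mem hrK (Or.inl ht), l, hl, by rw [mv_mul, h, mv_smul, C.refl_swap.2.1]⟩
  have hkI : k ∈ isometryGroup F (qf f a b φ) := by
    rcases hk with hk | hk
    · exact C.sgrp_le hk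
    · have := Subgroup.mul_mem _ C.refl_isometry (C.sgrp_le hk)
      rwa [← hr, ← mul_assoc, hsq, one_mul] at this
  have hs' := Orth.isSiegel_conj C.nondeg hkI hs
  rw [hku] at hs'
  have hy' : f (mv k y) a = 0 := by
    have e := Orth.pol_mv C.nondeg hkI u y
    rw [hy, hku, C.polar_left, hf.bilinear.smul_left, f_symm hf a] at e
    exact (mul_eq_zero.1 e).resolve_left hl
  set y' := mv k y
  have hly : f (l • y') a = 0 := by rw [hf.bilinear.smul_left, hy', mul_zero]
  have hwa : f (l • y' + f (l • y') b • a) a = 0 := by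
    rw [hf.bilinear.add_left, hly, hf.bilinear.smul_left, hf.alternating]; simp
  have hwb : f (l • y' + f (l • y') b • a) b = 0 := by
    rw [hf.bilinear.add_left, hf.bilinear.smul_left, hf.bilinear.smul_left, C.hab, mul_one,
      CharTwo.add_self_eq_zero]
  have hks : k * s * k⁻¹ = gel hf a (l • y' + f (l • y') b • a) (φ (l • y' + f (l • y') b • a)) := by
    rw [gel_add_smul hf hly, show φ (l • y' + f (l • y') b • a) = qf f a b φ (l • y') by
      rw [qf, hly, proj, hly]; simp, C.qf_smul]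
    refine ext_mv fun z => ?_
    rw [hs', mv_gel hf hly]
    simp only [C.polar_left, hf.bilinear.smul_right]
    funext i
    simp only [Pi.sub_apply, Pi.add_apply, Pi.smul_apply, smul_eq_mul]
    ring_nf
    simp [sub_eq_add_neg, CharTwo.neg_eq]
  have h2 : k * s * k⁻¹ ∈ K := Or.inl (hks ▸ gelA_mem hwa hwb)
  have := K.mul_mem (K.mul_mem (K.inv_mem hk) h2) hk
  rwa [show k⁻¹ * (k * s * k⁻¹) * k = s by group] at this

/-- The generated group consists of the isometries g with g - 1 of even rank. -/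
theorem Comp.sgrp_iff [Finite F] (hW : ∃ u, f u a = 0 ∧ f u b = 0 ∧ u ≠ 0) (hn : 3 ≤ Fintype.card ι)
    (g : GL ι F) :
    g ∈ sgrp hf a b φ ↔ g ∈ isometryGroup F (qf f a b φ) ∧ Even ((g : Matrix ι ι F) - 1).rank := by
  have hev : ∀ s ∈ sgrp hf a b φ, Even (Orth.moveRank s) := by
    have gen : ∀ {a b : ι → F}, Comp hf a b φ → ∀ w, f w a = 0 → f w b = 0 →
        Even (Orth.moveRank (gel hf a w (φ w))) := fun {a b} C w h1 h2 => by
      refine even_moveRank_siegel C.nondeg hn (u := a) (y := w) ?_ ?_ fun z => ?_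
      · have := C.qf_combo (f_zero_left hf a) (f_zero_left hf b) 1 0
        simpa [C.zero] using this
      · rw [C.polar_left, f_symm hf, h1]
      · have e : qf f a b φ w = φ w := by
          have := C.qf_combo h1 h2 0 0
          simpa using this
        rw [mv_gel hf h1, e, C.polar_left, C.polar_left, sub_eq_add_neg, ← neg_smul, CharTwo.neg_eq]
    intro s hs
    induction hs using Subgroup.closure_induction with
    | mem x hx =>
      obtain ⟨w, h1, h2, rfl | rfl⟩ := hx
      · exact gen C w h1 h2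
      · exact gen C.swap w h2 h1
    | one => rw [Orth.moveRank_one]; exact ⟨0, rfl⟩
    | mul x y hx hy ihx ihy => rw [even_moveRank_mul' C.nondeg hn (C.sgrp_le hx) (C.sgrp_le hy)]; tauto
    | inv x hx ihx =>
      have h := even_moveRank_mul' C.nondeg hn (C.sgrp_le hx) (Subgroup.inv_mem _ (C.sgrp_le hx))
      rw [mul_inv_cancel, Orth.moveRank_one] at h
      have h3 : Even 0 := ⟨0, rfl⟩
      tauto
  rw [← Orth.moveRank_eq_rank]
  refine ⟨fun h => ⟨C.sgrp_le h, hev g h⟩, fun ⟨hg, he⟩ => (C.mem_or hW hg).resolve_right fun h => ?_⟩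
  have hQ : qf f a b φ (a + b) = 1 := by
    have := C.qf_combo (f_zero_left hf a) (f_zero_left hf b) 1 1
    simpa [C.zero] using this
  obtain ⟨r, hr, hr'⟩ := Orth.exists_refl C.nondeg (a := a + b) (by rw [hQ]; exact one_ne_zero)
  have e : r = stv hf (a + b) 1 := by rw [C.isRefl_eq hr', hQ, inv_one]
  have h1 := (Orth.moveRank_flip C.nondeg hg hr hr').1
  rw [e] at h1
  exact h1 (hev _ h) he

end Cfsg.Agent.Dye
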