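/-
No transvections and more than two field elements: the two complements give one quadratic form on the space
orthogonal to both points.
-/
import Cfsg.Agent.Lib.DyeQuad.Key
set_option autoImplicit false

namespace Cfsg.Agent.Dye

open scoped Matrix
open Matrix Cfsg.Agent.Transvec

variable {ι : Type} [Fintype ι] [DecidableEq ι] {F : Type*} [Field F] [CharP F 2]
variable {f : (ι → F) → (ι → F) → F} {hf : Geo.IsSymplecticForm f}
variable {L : Subgroup (GL ι F)} {a b u : ι → F} {φ ψ : (ι → F) → F}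

theorem stv_inv' (hf : Geo.IsSymplecticForm f) (v : ι → F) (c : F) : (stv hf v c)⁻¹ = stv hf v c :=
  inv_eq_of_mul_eq_one_right (by rw [stv_add, CharTwo.add_self_eq_zero, stv_zero])

/-- Without transvections a zero at b gives a zero line at a. -/
theorem line_zero (hL : L ≤ preserving (Units.coeHom (Matrix ι ι F)) f) (P : Pt hf L a φ) (Q : Pt hf L b ψ)
    (hab : f a b = 1) (hua : f u a = 0) (hub : f u b = 0) (hA : ∀ c, stv hf a c ∈ L → c = 0)
    (hq : ∃ x : F, x ≠ 0 ∧ x ≠ 1) (hu : ψ u = 0) (l : F) : φ (l • u) = 0 := by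
  rcases eq_or_ne u 0 with rfl | hu0
  · rw [smul_zero, P.zero]
  have hs : stv hf b (ψ u) ∈ L := by rw [hu, stv_zero]; exact L.one_mem
  have hline : ∀ d : F, φ (d • u) ≠ 0 → ∀ k : F, φ (k • u) = k * k / φ (d • u) := fun d hd k =>
    CharTwo.add_eq_zero.1 (hA _ (line_of_key hL P hab hua hub hu0 hd (key hL P Q hab hua hub hs d) k))
  by_contra h
  have heq : ∀ d : F, φ (d • u) ≠ 0 → φ (d • u) = d := fun d hd => by
    have e := hline d hd d
    rw [eq_div_iff hd] at e
    exact sq_inj e
  obtain ⟨x, hx0, hx1⟩ := hq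
  have hl := heq l h
  have hl0 : l ≠ 0 := fun h' => h (by rw [hl, h'])
  have e := hline l h (x * l)
  have hne : φ ((x * l) • u) ≠ 0 := by
    rw [e, hl]
    exact div_ne_zero (mul_ne_zero (mul_ne_zero hx0 hl0) (mul_ne_zero hx0 hl0)) hl0
  rw [heq _ hne, hl, eq_div_iff hl0] at e
  apply hx1
  have : x * l * l * (x + 1) = 0 := by linear_combination -e + x * l * l * (CharTwo.two_eq_zero (R := F))
  simp only [mul_eq_zero, hx0, hl0, false_or] at this
  exact CharTwo.add_eq_zero.1 this

/-- The isometries fixing u and the vectors orthogonal to a, b, u. -/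
def lineGroup (f : (ι → F) → (ι → F) → F) (a b u : ι → F) : Subgroup (GL ι F) where
  carrier := {g | g ∈ preserving (Units.coeHom (Matrix ι ι F)) f ∧ mv g u = u ∧
    ∀ v, f v a = 0 → f v b = 0 → f v u = 0 → mv g v = v}
  mul_mem' {g h} hg hh := ⟨Subgroup.mul_mem _ hg.1 hh.1, by rw [mv_mul, hh.2.1, hg.2.1],
    fun v h1 h2 h3 => by rw [mv_mul, hh.2.2 v h1 h2 h3, hg.2.2 v h1 h2 h3]⟩
  one_mem' := ⟨Subgroup.one_mem _, mv_one u, fun v _ _ _ => mv_one v⟩
  inv_mem' {g} hg := ⟨Subgroup.inv_mem _ hg.1, ((mv_eq_iff g).1 hg.2.1).symm,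
    fun v h1 h2 h3 => ((mv_eq_iff g).1 (hg.2.2 v h1 h2 h3)).symm⟩

theorem gel_mem_lineGroup (hua : f u a = 0) (k c : F) : gel hf a (k • u) c ∈ lineGroup f a b u := by
  have hk : f (k • u) a = 0 := by rw [hf.bilinear.smul_left, hua, mul_zero]
  refine ⟨gel_mem hf _ _ _, ?_, fun v h1 _ h3 => ?_⟩
  · rw [mv_gel_perp hf hk hua, hf.bilinear.smul_right, hf.alternating]; simp
  · rw [mv_gel_perp hf hk h1, hf.bilinear.smul_right, h3]; simp

omit [CharP F 2] in
theorem lineGroup_comm : lineGroup f b a u = lineGroup f a b u :=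
  le_antisymm (fun _ hg => ⟨hg.1, hg.2.1, fun v h1 h2 h3 => hg.2.2 v h2 h1 h3⟩)
    (fun _ hg => ⟨hg.1, hg.2.1, fun v h1 h2 h3 => hg.2.2 v h2 h1 h3⟩)

/-- The vector x a + y b + z u. -/
def vec3 (a b u : ι → F) (x y z : F) : ι → F := x • a + y • b + z • u

theorem mv_gel_vec (hab : f a b = 1) (hua : f u a = 0) (hub : f u b = 0) (k c x y z : F) :
    mv (gel hf a (k • u) c) (vec3 a b u x y z) = vec3 a b u (x + c * y) y (z + k * y) := by
  have hk : f (k • u) a = 0 := by rw [hf.bilinear.smul_left, hua, mul_zero]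
  have hau : f a u = 0 := by rw [f_symm hf, hua]
  have hbu : f b u = 0 := by rw [f_symm hf, hub]
  have hba : f b a = 1 := by rw [f_symm hf, hab]
  rw [mv_gel hf hk, vec3, vec3]
  simp only [hf.bilinear.add_left, hf.bilinear.smul_left, hf.bilinear.smul_right, hf.alternating, hau, hbu,
    hba, hua]
  module

theorem mv_gel_vec' (hab : f a b = 1) (hua : f u a = 0) (hub : f u b = 0) (k c x y z : F) :
    mv (gel hf b (k • u) c) (vec3 a b u x y z) = vec3 a b u x (y + c * x) (z + k * x) := by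
  have e : ∀ x y z : F, vec3 a b u x y z = vec3 b a u y x z := fun x y z => by rw [vec3, vec3]; abel
  rw [e, mv_gel_vec (by rw [f_symm hf, hab]) hub hua, ← e]

/-- A translation in the group makes the map quadratic on the line. -/
theorem shift_quadratic (hL : L ≤ preserving (Units.coeHom (Matrix ι ι F)) f) (P : Pt hf L a φ)
    (hab : f a b = 1) (hua : f u a = 0) (hub : f u b = 0) (hu0 : u ≠ 0) (hA : ∀ c, stv hf a c ∈ L → c = 0)
    {T : GL ι F} (hT : T ∈ L) (hTK : T ∈ lineGroup f a b u) (hTa : mv T a = a) {D : F}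
    (hTb : mv T b = b + D • u) (hD : φ (D • u) ≠ 0) :
    (∀ k : F, φ (k • u) = k * k * φ u) ∧ stv hf u (φ u)⁻¹ * stv hf a (φ (D • u)) ∈ L := by
  have hau : f a u = 0 := by rw [f_symm hf, hua]
  have hbu : f b u = 0 := by rw [f_symm hf, hub]
  obtain ⟨u', hua', hub', huu'⟩ : ∃ u', f u' a = 0 ∧ f u' b = 0 ∧ f u' u = 1 := by
    obtain ⟨y, hy⟩ := (hf.nondegenerate u hu0).1
    obtain ⟨w, hwa, hwb, hw⟩ := decomp hf hab y
    have hwu : f y u = f w u := by
      nth_rewrite 1 [hw]
      simp [hf.bilinear.add_left, hf.bilinear.smul_left, hau, hbu]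
    refine ⟨(f w u)⁻¹ • w, by rw [hf.bilinear.smul_left, hwa, mul_zero],
      by rw [hf.bilinear.smul_left, hwb, mul_zero], ?_⟩
    rw [hf.bilinear.smul_left, inv_mul_cancel₀]
    rwa [← hwu]
  have hDa : f (D • a) u = 0 := by rw [hf.bilinear.smul_left, hau, mul_zero]
  set z := f (mv T u') u' with hz
  set T' := gel hf u (D • a) z * T with hT'
  have hT'p : T' ∈ preserving (Units.coeHom (Matrix ι ι F)) f := Subgroup.mul_mem _ (gel_mem hf _ _ _) hTK.1
  have ha : mv T' a = a := by
    rw [hT', mv_mul, hTa, mv_gel hf hDa, hau, hf.bilinear.smul_right, hf.alternating]; simp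
  have hu : mv T' u = u := by rw [hT', mv_mul, hTK.2.1, mv_gel_self hf hDa]
  have hb : mv T' b = b := by
    rw [hT', mv_mul, hTb, mv_gel hf hDa]
    simp only [hf.bilinear.add_left, hf.bilinear.smul_left, hf.bilinear.smul_right, hf.alternating, hbu, hua,
      f_symm hf b a, hab]
    simp only [mul_zero, add_zero, zero_smul, mul_one]
    exact vadd_cancel _ _
  have hfix : ∀ v, f v a = 0 → f v b = 0 → f v u = 0 → mv T' v = v := fun v h1 h2 h3 => by
    rw [hT', mv_mul, hTK.2.2 v h1 h2 h3, mv_gel hf hDa, h3, hf.bilinear.smul_right, h1]; simp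
  have hY : ∀ v, mv T v = v → f (mv T u') v = f u' v := fun v hv => by
    have e : f (mv T u') (mv T v) = f u' v := hTK.1 u' v
    rwa [hv] at e
  have hu'' : mv T' u' = u' := by
    have e1 : mv T' u' = mv T u' + D • a + z • u := by
      rw [hT', mv_mul, mv_gel hf hDa, hY u hTK.2.1, huu', hf.bilinear.smul_right, hY a hTa, hua']
      simp
    have hzero : f (mv T' u') u' = 0 := by
      rw [e1, hf.bilinear.add_left, hf.bilinear.add_left, ← hz, hf.bilinear.smul_left, hf.bilinear.smul_left,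
        f_symm hf a u', hua', f_symm hf u u', huu']
      simp [CharTwo.add_self_eq_zero]
    have hT'f : ∀ v, mv T' v = v → f (mv T' u') v = f u' v := fun v hv => by
      have e : f (mv T' u') (mv T' v) = f u' v := hT'p u' v
      rwa [hv] at e
    have hall : ∀ v, f (mv T' u' + u') v = 0 := fun v => by
      obtain ⟨w, hwa, hwb, hw⟩ := decomp hf hab v
      obtain ⟨w', hwu, hwu', hw'⟩ := decomp hf (a := u) (b := u') (by rw [f_symm hf, huu']) w
      have h'a : f w' a = 0 := by
        have e := congrArg (fun x => f x a) hw'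
        simp only [hf.bilinear.add_left, hf.bilinear.smul_left, hwa, hua, hua'] at e
        simpa using e.symm
      have h'b : f w' b = 0 := by
        have e := congrArg (fun x => f x b) hw'
        simp only [hf.bilinear.add_left, hf.bilinear.smul_left, hwb, hub, hub'] at e
        simpa using e.symm
      rw [hf.bilinear.add_left, CharTwo.add_eq_zero, hw, hw']
      simp only [hf.bilinear.add_right, hf.bilinear.smul_right, hT'f a ha, hT'f b hb, hT'f u hu,
        hT'f w' (hfix w' h'a h'b hwu), hzero, hf.alternating]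
    by_contra hne
    obtain ⟨x, hx⟩ := (hf.nondegenerate (mv T' u' + u')
      (fun e => hne (by rw [← vadd_cancel (mv T' u') u', e, zero_add]))).2
    exact hx (hall x)
  have hone : T' = 1 := ext_mv fun v => by
    obtain ⟨w, hwa, hwb, hw⟩ := decomp hf hab v
    obtain ⟨w', hwu, hwu', hw'⟩ := decomp hf (a := u) (b := u') (by rw [f_symm hf, huu']) w
    have h'a : f w' a = 0 := by
      have e := congrArg (fun x => f x a) hw'
      simp only [hf.bilinear.add_left, hf.bilinear.smul_left, hwa, hua, hua'] at e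
      simpa using e.symm
    have h'b : f w' b = 0 := by
      have e := congrArg (fun x => f x b) hw'
      simp only [hf.bilinear.add_left, hf.bilinear.smul_left, hwb, hub, hub'] at e
      simpa using e.symm
    rw [mv_one, hw, hw']
    simp only [mv_add, mv_smul, ha, hb, hu, hu'', hfix w' h'a h'b hwu]
  have hTe : T = gel hf u (D • a) z := by
    rw [← gel_inv hf hDa z, eq_comm]
    exact inv_eq_of_mul_eq_one_right hone
  have hDu : f (D • u) a = 0 := by rw [hf.bilinear.smul_left, hua, mul_zero]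
  have e : gel hf u (D • a) 0 = gel hf a (D • u) 0 := by
    refine ext_mv fun v => ?_
    rw [mv_gel hf hDa, mv_gel hf hDu, hf.bilinear.smul_right, hf.bilinear.smul_right]
    module
  have he : stv hf u z * stv hf a (φ (D • u)) ∈ L := by
    have h1 := L.mul_mem hT (P.mem _ hDu)
    rw [hTe, ← add_zero z, ← stv_mul_gel hf hDa, ← zero_add (φ (D • u)), ← gel_mul_stv hf hDu, e,
      mul_assoc, ← mul_assoc (gel hf a (D • u) 0), gel_sq hf hDu, one_mul] at h1
    simpa using h1
  have hz0 : z ≠ 0 := fun h0 => hD (hA _ (by rwa [h0, stv_zero, one_mul] at he))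
  have hline : ∀ k : F, φ (k • u) = k * k / z := fun k => by
    refine CharTwo.add_eq_zero.1 (hA _ (line_of_transvection hL P hua (not_mem_span hf hab hub hu0) he
      ?_ hz0 (t := 0) (fun w hw => ?_) k))
    · rw [mv_mul, stv_fix hf _ _ (hf.alternating a), stv_fix hf _ _ hau]
    · rw [mv_mul, stv_fix hf a _ hw, mv_stv, zero_smul, add_zero]
  have hu1 : φ u = 1 / z := by simpa using hline 1
  refine ⟨fun k => by rw [hline, hu1]; field_simp, ?_⟩
  rwa [hu1, one_div, _root_.inv_inv]

/-- Each line is either quadratic, with equal values at both points, or linear. -/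
theorem line_form [Finite F] (hL : L ≤ preserving (Units.coeHom (Matrix ι ι F)) f) (P : Pt hf L a φ)
    (Q : Pt hf L b ψ) (hab : f a b = 1) (hua : f u a = 0) (hub : f u b = 0)
    (hA : ∀ c, stv hf a c ∈ L → c = 0) (hB : ∀ c, stv hf b c ∈ L → c = 0) (hq : ∃ x : F, x ≠ 0 ∧ x ≠ 1) :
    ((∀ l : F, φ (l • u) = l * l * φ u) ∧ ψ u = φ u) ∨ ∃ p : F, p ≠ 0 ∧ ∀ l : F, φ (l • u) = p * l := by
  have hba : f b a = 1 := by rw [f_symm hf, hab]
  have hmu : ∀ l : F, f (l • u) a = 0 ∧ f (l • u) b = 0 := fun l =>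
    ⟨by rw [hf.bilinear.smul_left, hua, mul_zero], by rw [hf.bilinear.smul_left, hub, mul_zero]⟩
  by_cases hzero : ∃ l : F, l ≠ 0 ∧ (φ (l • u) = 0 ∨ ψ (l • u) = 0)
  · obtain ⟨l, hl, h⟩ := hzero
    have hψu : ψ u = 0 ∨ φ u = 0 := by
      rcases h with h | h
      · left
        have := line_zero hL Q P hba (hmu l).2 (hmu l).1 hB hq h l⁻¹
        rwa [smul_smul, inv_mul_cancel₀ hl, one_smul] at this
      · right
        have := line_zero hL P Q hab (hmu l).1 (hmu l).2 hA hq h l⁻¹
        rwa [smul_smul, inv_mul_cancel₀ hl, one_smul] at this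
    have hψu' : ψ u = 0 := hψu.elim id fun h' => by
      simpa using line_zero hL Q P hba hub hua hB hq h' 1
    have hz := line_zero hL P Q hab hua hub hA hq hψu'
    refine Or.inl ⟨fun l => ?_, ?_⟩
    · rw [hz, show φ u = 0 by simpa using hz 1, mul_zero]
    · rw [hψu', show φ u = 0 by simpa using hz 1]
  push Not at hzero
  have hu0 : u ≠ 0 := fun h => (hzero 1 one_ne_zero).1 (by rw [h, smul_zero, P.zero])
  have bij : ∀ {c : ι → F} {χ : (ι → F) → F}, Pt hf L c χ → f u c = 0 →
      (∀ l : F, l ≠ 0 → χ (l • u) ≠ 0) → Function.Bijective (fun l : F => χ (l • u)) := by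
    intro c χ R huc hne
    have hinj : Function.Injective (fun l : F => χ (l • u)) := fun x y hxy => by
      by_contra hne'
      have e := R.add (x • u) (y • u) (by rw [hf.bilinear.smul_left, huc, mul_zero])
        (by rw [hf.bilinear.smul_left, huc, mul_zero])
      change χ (x • u) = χ (y • u) at hxy
      rw [hf.bilinear.smul_left, hf.bilinear.smul_right, hf.alternating, mul_zero, mul_zero, add_zero,
        ← add_smul, hxy, CharTwo.add_self_eq_zero] at e
      exact hne _ (fun h => hne' (CharTwo.add_eq_zero.1 h)) e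
    exact Finite.injective_iff_bijective.1 hinj
  have bφ := bij P hua (fun l hl => (hzero l hl).1)
  have bψ := bij Q hub (fun l hl => (hzero l hl).2)
  obtain ⟨s, hs⟩ := bφ.2.hasRightInverse
  obtain ⟨t, ht⟩ := bψ.2.hasRightInverse
  change ∀ x, φ (s x • u) = x at hs
  change ∀ x, ψ (t x • u) = x at ht
  have hsl : ∀ l, s (φ (l • u)) = l := fun l => bφ.1 (hs _)
  have htl : ∀ l, t (ψ (l • u)) = l := fun l => bψ.1 (ht _)
  have hs0 : ∀ x, s x = 0 → x = 0 := fun x hx => by rw [← hs x, hx, zero_smul, P.zero]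
  have ht0 : ∀ x, t x = 0 → x = 0 := fun x hx => by rw [← ht x, hx, zero_smul, Q.zero]
  have hU : ∀ x, gel hf a (s x • u) x ∈ L ⊓ lineGroup f a b u := fun x => by
    refine ⟨?_, gel_mem_lineGroup hua _ _⟩
    have := P.mem _ (hmu (s x)).1
    rwa [hs x] at this
  have hW : ∀ x, gel hf b (t x • u) x ∈ L ⊓ lineGroup f a b u := fun x => by
    refine ⟨?_, lineGroup_comm (f := f) (a := a) (b := b) ▸ gel_mem_lineGroup hub _ _⟩
    have := Q.mem _ (hmu (t x)).2
    rwa [ht x] at this
  have h3 : (3 : F) = 1 := by rw [← Nat.cast_ofNat, CharTwo.natCast_eq_mod]; simp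
  have h4 : (4 : F) = 0 := by rw [← Nat.cast_ofNat, CharTwo.natCast_eq_mod]; simp
  have v100 : vec3 a b u 1 0 0 = a := by simp [vec3]
  have v010 : vec3 a b u 0 1 0 = b := by simp [vec3]
  have shifts : ∀ α : F, α ≠ 0 → ∀ γ : F,
      (∃ T ∈ L ⊓ lineGroup f a b u, mv T a = a ∧
        mv T b = b + (s (α * α * γ) + α * γ * s α + α * α * γ * t α⁻¹ + α * t γ) • u) ∧
      (∃ T ∈ L ⊓ lineGroup f a b u, mv T b = b ∧
        mv T a = a + ((s (α * α * γ) + α * γ * s α + α * α * γ * t α⁻¹ + α * t γ) / α) • u) := by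
    intro α hα γ
    set A := t α⁻¹ + s α / α with hA'
    set N := gel hf a (s α • u) α * gel hf b (t α⁻¹ • u) α⁻¹ * gel hf a (s α • u) α with hN
    have hNm : N ∈ L ⊓ lineGroup f a b u := Subgroup.mul_mem _ (Subgroup.mul_mem _ (hU α) (hW α⁻¹)) (hU α)
    have hNv : ∀ x y z, mv N (vec3 a b u x y z) = vec3 a b u (α * y) (α⁻¹ * x) (z + A * x + α * A * y) := by
      intro x y z
      rw [hN, mv_mul, mv_mul, mv_gel_vec hab hua hub, mv_gel_vec' hab hua hub, mv_gel_vec hab hua hub, hA']
      congr 1 <;> (field_simp; try ring_nf; try simp [CharTwo.two_eq_zero, h3, h4])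
    set D := s (α * α * γ) + α * γ * s α + α * α * γ * t α⁻¹ + α * t γ with hD
    set T := N * gel hf b (t γ • u) γ * N * gel hf a (s (α * α * γ) • u) (α * α * γ) with hT
    have hTm : T ∈ L ⊓ lineGroup f a b u :=
      Subgroup.mul_mem _ (Subgroup.mul_mem _ (Subgroup.mul_mem _ hNm (hW γ)) hNm) (hU _)
    have hTv : ∀ x y z, mv T (vec3 a b u x y z) = vec3 a b u x y (z + D * y) := by
      intro x y z
      rw [hT, mv_mul, mv_mul, mv_mul, mv_gel_vec hab hua hub, hNv, mv_gel_vec' hab hua hub, hNv, hD, hA']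
      congr 1 <;> (field_simp; try ring_nf; try simp [CharTwo.two_eq_zero, h3, h4])
    refine ⟨⟨T, hTm, ?_, ?_⟩, ⟨N * T * N, Subgroup.mul_mem _ (Subgroup.mul_mem _ hNm hTm) hNm, ?_, ?_⟩⟩
    · nth_rewrite 1 [← v100]
      rw [hTv, mul_zero, add_zero, v100]
    · nth_rewrite 1 [← v010]
      rw [hTv]
      simp [vec3]
    · nth_rewrite 1 [← v010]
      rw [mv_mul, mv_mul, hNv, hTv, hNv, ← v010]
      congr 1 <;> (field_simp; try ring_nf; try simp [CharTwo.two_eq_zero, h3, h4])
    · nth_rewrite 1 [← v100]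
      rw [mv_mul, mv_mul, hNv, hTv, hNv]
      simp only [vec3, mul_zero, mul_one, zero_add, add_zero, zero_smul, one_smul, mul_inv_cancel₀ hα]
      congr 2
      field_simp
      ring_nf
      simp [CharTwo.two_eq_zero]
  by_cases hsh : ∃ α γ : F, α ≠ 0 ∧ s (α * α * γ) + α * γ * s α + α * α * γ * t α⁻¹ + α * t γ ≠ 0
  · -- some shift is non-trivial
    obtain ⟨α, γ, hα, hD⟩ := hsh
    obtain ⟨⟨T, hT, hTa, hTb⟩, ⟨T', hT', hTb', hTa'⟩⟩ := shifts α hα γ
    have hqa := (shift_quadratic hL P hab hua hub hu0 hA hT.1 hT.2 hTa hTb (hzero _ hD).1).1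
    have hqb := (shift_quadratic hL Q hba hub hua hu0 hB hT'.1 (lineGroup_comm (f := f) (a := a) ▸ hT'.2)
      hTb' hTa' (hzero _ (div_ne_zero hD hα)).2).1
    refine Or.inl ⟨hqa, ?_⟩
    have hφu : φ u ≠ 0 := by simpa using (hzero 1 one_ne_zero).1
    obtain ⟨m, hm⟩ := exists_sq (φ u)⁻¹
    have hψu : ψ u ≠ 0 := by simpa using (hzero 1 one_ne_zero).2
    obtain ⟨m', hm'⟩ := exists_sq (ψ u)⁻¹
    have hsb : ∀ x, s (x * x) = m * x := fun x => bφ.1 (by
      show φ (s (x * x) • u) = φ ((m * x) • u)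
      rw [hs, hqa, show m * x * (m * x) = m * m * (x * x) by ring, hm]; field_simp)
    have htb : ∀ x, t (x * x) = m' * x := fun x => bψ.1 (by
      show ψ (t (x * x) • u) = ψ ((m' * x) • u)
      rw [ht, hqb, show m' * x * (m' * x) = m' * m' * (x * x) by ring, hm']; field_simp)
    by_contra hne
    obtain ⟨x, hx0, hx1⟩ := hq
    set D₁ := (m + m') * (x + x * x) with hD1
    have hD10 : D₁ ≠ 0 := by
      refine mul_ne_zero (fun h => hne ?_) (fun h => ?_)
      · rw [← _root_.inv_inj, ← hm, ← hm', CharTwo.add_eq_zero.1 h]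
      · have h' : x * (1 + x) = 0 := by linear_combination h
        exact hx1 (CharTwo.add_eq_zero.1 ((mul_eq_zero.1 h').resolve_left hx0)).symm
    have hmem : ∀ w : F, w ≠ 0 → stv hf u (φ u)⁻¹ * stv hf a (φ ((w * D₁) • u)) ∈ L := by
      intro w hw
      obtain ⟨⟨T, hT, hTa, hTb⟩, -⟩ := shifts (w * w) (mul_ne_zero hw hw) ((x / w) * (x / w))
      have e : s (w * w * (w * w) * (x / w * (x / w))) + w * w * (x / w * (x / w)) * s (w * w) +
          w * w * (w * w) * (x / w * (x / w)) * t (w * w)⁻¹ + w * w * t (x / w * (x / w)) = w * D₁ := by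
        rw [show w * w * (w * w) * (x / w * (x / w)) = (w * x) * (w * x) by field_simp, hsb, hsb,
          show (w * w)⁻¹ = w⁻¹ * w⁻¹ by field_simp, htb, htb, hD1]
        field_simp
        ring
      rw [e] at hTb
      exact (shift_quadratic hL P hab hua hub hu0 hA hT.1 hT.2 hTa hTb
        (hzero _ (mul_ne_zero hw hD10)).1).2
    have h12 := L.mul_mem (L.inv_mem (hmem 1 one_ne_zero)) (hmem x hx0)
    rw [_root_.mul_inv_rev, mul_assoc, inv_mul_cancel_left, stv_inv', stv_add, one_mul] at h12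
    have h3 := hA _ h12
    have h4 : D₁ = x * D₁ := bφ.1 (CharTwo.add_eq_zero.1 h3)
    exact hx1 (by rwa [eq_comm, mul_eq_right₀ hD10] at h4)
  · -- all shifts are trivial
    push Not at hsh
    have h1 : ∀ γ, t γ = s γ + γ * (s 1 + t 1) := fun γ => by
      have := hsh 1 γ one_ne_zero
      simp only [one_mul, inv_one] at this
      linear_combination this - (s γ + γ * (s 1 + t 1)) * (CharTwo.two_eq_zero (R := F))
    have hG : ∀ α γ : F, α ≠ 0 →
        s (α * α * γ) + γ * s (α * α) + α * s γ + α * γ * s 1 = 0 := fun α γ hα => by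
      have g1 := hsh α 1 hα
      have g2 := hsh α γ hα
      rw [h1 α⁻¹] at g1
      rw [h1 α⁻¹, h1 γ] at g2
      simp only [mul_one] at g1
      linear_combination g2 + γ * g1 - (α * γ * s α + α * α * γ * (s α⁻¹ + α⁻¹ * (s 1 + t 1)) +
        α * γ * t 1) * (CharTwo.two_eq_zero (R := F))
    obtain ⟨ω, hω0, hω1⟩ := hq
    have hω : ω + ω * ω ≠ 0 := fun h => by
      have h' : ω * (1 + ω) = 0 := by linear_combination h
      exact hω1 (CharTwo.add_eq_zero.1 ((mul_eq_zero.1 h').resolve_left hω0)).symm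
    set m := (s (ω * ω) + s 1 * (ω * ω)) / (ω + ω * ω) with hm
    set l := (s (ω * ω) + s 1 * ω) / (ω + ω * ω) with hl
    have hsb : ∀ x, s (x * x) = m * x + l * (x * x) := fun x => by
      rcases eq_or_ne x 0 with rfl | hx
      · simpa [P.zero] using hsl 0
      have g1 := hG x (ω * ω) hx
      have g2 := hG ω (x * x) hω0
      rw [show x * x * (ω * ω) = ω * ω * (x * x) by ring] at g1
      rw [hm, hl, div_mul_eq_mul_div, div_mul_eq_mul_div, ← add_div, eq_div_iff hω]
      linear_combination g1 + g2 - (s (ω * ω * (x * x)) + x * s (ω * ω) + x * (ω * ω) * s 1 +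
        x * x * s (ω * ω) + ω * (x * x) * s 1) * (CharTwo.two_eq_zero (R := F))
    have htb : ∀ x, t (x * x) = m * x + (l + (s 1 + t 1)) * (x * x) := fun x => by
      rw [h1, hsb]; ring
    have noroot : ∀ (g : F → F) (c d : F), (∀ x, g x = 0 → x = 0) → (∀ x, g (x * x) = c * x + d * (x * x)) →
        c ≠ 0 → d = 0 := fun g c d hg hgf hc => by
      by_contra hd
      have := hg (c / d * (c / d)) (by
        rw [hgf, show d * (c / d * (c / d)) = c * (c / d) by field_simp, CharTwo.add_self_eq_zero])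
      simp [hc, hd] at this
    rcases eq_or_ne m 0 with hm0 | hm0
    · -- linear
      have hsl' : ∀ x, s x = l * x := fun x => by
        obtain ⟨y, rfl⟩ := exists_sq x
        rw [hsb, hm0]; ring
      have hl0 : l ≠ 0 := fun h => one_ne_zero (hs0 1 (by rw [hsl', h, zero_mul]))
      refine Or.inr ⟨l⁻¹, inv_ne_zero hl0, fun k => ?_⟩
      have := hsl k
      rw [hsl'] at this
      field_simp
      linear_combination this
    · have hl0 : l = 0 := noroot s m l hs0 hsb hm0
      have hk0 : l + (s 1 + t 1) = 0 := noroot t m _ ht0 htb hm0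
      have hts : ∀ x, t x = s x := fun x => by
        rw [hl0, zero_add] at hk0
        rw [h1, hk0, mul_zero, add_zero]
      have hq' : ∀ k : F, φ (k • u) = k * k / (m * m) := fun k => by
        have e : s (k / m * (k / m)) = k := by rw [hsb, hl0]; field_simp; ring
        nth_rewrite 1 [← e]
        rw [hs]; field_simp
      refine Or.inl ⟨fun k => ?_, ?_⟩
      · rw [hq' k, show φ u = 1 / (m * m) by simpa using hq' 1]; ring
      · have e := htl 1
        rw [one_smul, hts] at e
        have e' := congrArg (fun r : F => φ (r • u)) e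
        simp only [hs, one_smul] at e'
        exact e'

/-- The common quadratic form. -/
theorem quadratic_of_many [Finite F] (hL : L ≤ preserving (Units.coeHom (Matrix ι ι F)) f) (P : Pt hf L a φ)
    (Q : Pt hf L b ψ) (hab : f a b = 1) (hA : ∀ c, stv hf a c ∈ L → c = 0)
    (hB : ∀ c, stv hf b c ∈ L → c = 0) (h4 : ∃ x : F, x ≠ 0 ∧ x ≠ 1) (hua : f u a = 0) (hub : f u b = 0) :
    (∀ l : F, φ (l • u) = l * l * φ u) ∧ ψ u = φ u := by
  rcases line_form hL P Q hab hua hub hA hB h4 with h | ⟨p, hp, hline⟩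
  · exact h
  exfalso
  have hu0 : u ≠ 0 := fun h => hp (by simpa [h, P.zero] using (hline 1).symm)
  obtain ⟨y, hy⟩ := (hf.nondegenerate u hu0).1
  obtain ⟨w, hwa, hwb, hw⟩ := decomp hf hab y
  have hyu : f y u = f w u := by
    nth_rewrite 1 [hw]
    simp [hf.bilinear.add_left, hf.bilinear.smul_left, f_symm hf a u, f_symm hf b u, hua, hub]
  set v := (f w u)⁻¹ • w with hv
  have hva : f v a = 0 := by rw [hv, hf.bilinear.smul_left, hwa, mul_zero]
  have hvb : f v b = 0 := by rw [hv, hf.bilinear.smul_left, hwb, mul_zero]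
  have huv : f u v = 1 := by
    rw [f_symm hf, hv, hf.bilinear.smul_left, inv_mul_cancel₀]; rwa [← hyu]
  obtain ⟨x, hx0, hx1⟩ := h4
  have coef : ∀ c d : F, (∀ l, c * l + d * (l * l) = 0) → c = 0 ∧ d = 0 := fun c d h => by
    have e1 := h 1
    have ex := h x
    have hd : d * (x * (x + 1)) = 0 := by linear_combination ex + x * e1 - c * x * (CharTwo.two_eq_zero (R := F))
    have hd0 : d = 0 := (mul_eq_zero.1 hd).resolve_right
      (mul_ne_zero hx0 fun h => hx1 (CharTwo.add_eq_zero.1 h))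
    exact ⟨by simpa [hd0] using e1, hd0⟩
  obtain ⟨p', r, hpr, hline'⟩ : ∃ p' r : F, (p' = 0 ∨ r = 0) ∧ ∀ l : F, φ (l • v) = p' * l + r * (l * l) := by
    rcases line_form hL P Q hab hva hvb hA hB ⟨x, hx0, hx1⟩ with ⟨h, -⟩ | ⟨p', -, h⟩
    · exact ⟨0, φ v, Or.inl rfl, fun l => by rw [h]; ring⟩
    · exact ⟨p', 0, Or.inr rfl, fun l => by rw [h]; ring⟩
  have hsum : ∀ μ : F, p + p' * μ = 0 ∨ r * (μ * μ) + μ = 0 := by
    intro μ
    have hma : f (u + μ • v) a = 0 := by rw [hf.bilinear.add_left, hf.bilinear.smul_left, hua, hva]; simp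
    have hmb : f (u + μ • v) b = 0 := by rw [hf.bilinear.add_left, hf.bilinear.smul_left, hub, hvb]; simp
    have e : ∀ l : F, φ (l • (u + μ • v)) = (p + p' * μ) * l + (r * (μ * μ) + μ) * (l * l) := fun l => by
      rw [smul_add, smul_smul, P.add _ _ (by rw [hf.bilinear.smul_left, hua, mul_zero])
        (by rw [hf.bilinear.smul_left, hva, mul_zero]), hline, hline', hf.bilinear.smul_left,
        hf.bilinear.smul_right, huv]
      ring
    rcases line_form hL P Q hab hma hmb hA hB ⟨x, hx0, hx1⟩ with ⟨h, -⟩ | ⟨c, -, h⟩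
    · left
      refine (coef _ (r * (μ * μ) + μ - φ (u + μ • v)) fun l => ?_).1
      linear_combination (h l) - e l
    · right
      refine (coef (p + p' * μ - c) _ fun l => ?_).2
      linear_combination (h l) - e l
  rcases hpr with rfl | rfl
  · have h' : ∀ μ : F, μ ≠ 0 → r * μ = 1 := fun μ hμ => by
      rcases hsum μ with h | h
      · simp [hp] at h
      · have : μ * (r * μ + 1) = 0 := by linear_combination h
        exact CharTwo.add_eq_zero.1 ((mul_eq_zero.1 this).resolve_left hμ)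
    have h1 := h' 1 one_ne_zero
    have h2 := h' x hx0
    exact hx1 (by linear_combination h2 - x * h1)
  · have h' : ∀ μ : F, μ ≠ 0 → p' * μ = p := fun μ hμ => by
      rcases hsum μ with h | h
      · exact (CharTwo.add_eq_zero.1 h).symm
      · simp [hμ] at h
    have h1 := h' 1 one_ne_zero
    have h2 := h' x hx0
    have : p * (x + 1) = 0 := by linear_combination h2 - x * h1 + p * (CharTwo.two_eq_zero (R := F))
    exact hx1 (CharTwo.add_eq_zero.1 ((mul_eq_zero.1 this).resolve_left hp))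

end Cfsg.Agent.Dye
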