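/-
An irreducible group containing a complement of the transvections at a point: the symplectic group, an
orthogonal group or its even part, or a transitive group in dimension four over two elements.
-/
import Cfsg.Agent.Lib.DyeQuad.Form
import Cfsg.Agent.Lib.DyeQuad.Lines
set_option autoImplicit false

namespace Cfsg.Agent.Dye

open scoped Matrix
open Matrix Cfsg.Agent.Transvec

variable {ι : Type} [Fintype ι] [DecidableEq ι] {F : Type*} [Field F] [CharP F 2]
variable {f : (ι → F) → (ι → F) → F} {hf : Geo.IsSymplecticForm f}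
variable {L : Subgroup (GL ι F)} {a b u v : ι → F} {φ ψ : (ι → F) → F}

/-- Some element of L fixes a without being trivial on the quotient of its orthogonal space by its line. -/
def Extra (f : (ι → F) → (ι → F) → F) (L : Subgroup (GL ι F)) (a : ι → F) : Prop :=
  ∃ g ∈ L, mv g a = a ∧ ∃ w, f w a = 0 ∧ mv g w + w ∉ Submodule.span F {a}

omit [CharP F 2] in
theorem Extra.transport (hf : Geo.IsSymplecticForm f) (hL : L ≤ preserving (Units.coeHom (Matrix ι ι F)) f)
    {h : GL ι F} (hh : h ∈ L) {c : F} (hc : c ≠ 0) (hE : Extra f L (c • mv h a)) : Extra f L a := by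
  obtain ⟨g, hg, hga, w, hwa, hgw⟩ := hE
  refine ⟨h⁻¹ * g * h, L.mul_mem (L.mul_mem (L.inv_mem hh) hg) hh, ?_, mv h⁻¹ w, ?_, fun hmem => hgw ?_⟩
  · rw [mv_smul] at hga
    rw [mv_mul, mv_mul, smul_right_injective _ hc hga, mv_inv_mv]
  · have e : f (mv h⁻¹ w) (mv h⁻¹ (mv h a)) = f w (mv h a) := hL (L.inv_mem hh) _ _
    rw [mv_inv_mv] at e
    rw [hf.bilinear.smul_right] at hwa
    rw [e]; exact (mul_eq_zero.1 hwa).resolve_left hc
  · rw [mv_mul, mv_mul, mv_mv_inv, ← mv_add, Submodule.mem_span_singleton] at hmem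
    obtain ⟨t, ht⟩ := hmem
    refine Submodule.mem_span_singleton.2 ⟨t * c⁻¹, ?_⟩
    rw [smul_smul, mul_assoc, inv_mul_cancel₀ hc, mul_one, ← mv_smul, ht, mv_mv_inv]

include hf in
theorem exists_perp (h4 : 4 ≤ Fintype.card ι) (a b : ι → F) : ∃ u, f u a = 0 ∧ f u b = 0 ∧ u ≠ 0 := by
  let T : (ι → F) →ₗ[F] (Fin 2 → F) := LinearMap.pi ![formR hf a, formR hf b]
  obtain ⟨u, hu, hu0⟩ := (LinearMap.ker T).ne_bot_iff.1
    (LinearMap.ker_ne_bot_of_finrank_lt (by rw [Module.finrank_pi, Module.finrank_pi, Fintype.card_fin]; omega))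
  exact ⟨u, congrFun (LinearMap.mem_ker.1 hu) 0, congrFun (LinearMap.mem_ker.1 hu) 1, hu0⟩

include hf in
omit [CharP F 2] in
theorem exists_perp_three (h5 : 5 ≤ Fintype.card ι) (a b u : ι → F) :
    ∃ v, f v a = 0 ∧ f v b = 0 ∧ f u v = 0 ∧ v ∉ Submodule.span F {u} := by
  let T : (ι → F) →ₗ[F] (Fin 3 → F) := LinearMap.pi ![formR hf a, formR hf b, formR hf u]
  by_contra hcon
  push Not at hcon
  have hle : LinearMap.ker T ≤ Submodule.span F {u} := fun z hz =>
    hcon z (congrFun (LinearMap.mem_ker.1 hz) 0) (congrFun (LinearMap.mem_ker.1 hz) 1)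
      ((f_eq_zero_comm hf).1 (congrFun (LinearMap.mem_ker.1 hz) 2))
  have h1 := Submodule.finrank_mono hle
  have h2 := LinearMap.finrank_range_add_finrank_ker T
  have h3 := Submodule.finrank_le (LinearMap.range T)
  have h4 : Module.finrank F ↥(Submodule.span F ({u} : Set (ι → F))) ≤ 1 := by
    rcases eq_or_ne u 0 with rfl | hu
    · rw [Submodule.span_zero_singleton, finrank_bot]; exact Nat.zero_le _
    · rw [finrank_span_singleton hu]
  rw [Module.finrank_pi] at h2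
  rw [Module.finrank_fin_fun] at h3
  omega

/-- If L moves a singular vector to a non-singular one, then a + b is a point. -/
theorem exists_point [Finite F] (C : Comp hf a b φ) (hW : ∃ u, f u a = 0 ∧ f u b = 0 ∧ u ≠ 0)
    (hL : L ≤ preserving (Units.coeHom (Matrix ι ι F)) f) (hS : sgrp hf a b φ ≤ L)
    {g₀ : GL ι F} (hg₀ : g₀ ∈ L) {μ : F} (hμ : μ ≠ 0) (hb : b = μ • mv g₀ a)
    (hne : ¬ L ≤ isometryGroup F (qf f a b φ)) : ∃ h ∈ L, ∃ c : F, c ≠ 0 ∧ a + b = c • mv h a := by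
  obtain ⟨g, hg, hgI⟩ := SetLike.not_le_iff_exists.1 hne
  obtain ⟨v, hv, hgv⟩ : ∃ v, qf f a b φ v = 0 ∧ qf f a b φ (mv g v) ≠ 0 := by
    by_contra hcon
    push Not at hcon
    set D := fun z => qf f a b φ (mv g z) + qf f a b φ z
    have hadd : ∀ x y, D (x + y) = D x + D y := fun x y => by
      have e : f (mv g x) (mv g y) = f x y := hL hg x y
      simp only [D, mv_add, C.qf_add, e]
      ring_nf
      simp [CharTwo.two_eq_zero]
    have hsing : ∀ z, qf f a b φ z = 0 → D z = 0 := fun z hz => by simp [D, hz, hcon z hz]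
    have q0 : ∀ x y : F, x * y = 0 → qf f a b φ (x • a + y • b) = 0 := fun x y h => by
      have := C.qf_combo (f_zero_left hf a) (f_zero_left hf b) x y
      simpa [C.zero, h] using this
    have hA : ∀ x : F, D (x • a) = 0 := fun x => hsing _ (by simpa using q0 x 0 (mul_zero x))
    have hB : ∀ y : F, D (y • b) = 0 := fun y => hsing _ (by simpa using q0 0 y (zero_mul y))
    have hWz : ∀ w, f w a = 0 → f w b = 0 → D w = 0 := fun w h1 h2 => by
      have e := hsing ((1 : F) • a + φ w • b + w) (by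
        rw [C.qf_combo h1 h2, one_mul, CharTwo.add_self_eq_zero])
      rwa [hadd, hadd, hA, hB, add_zero, zero_add] at e
    refine hgI (Orth.mem_isometry.2 fun z => CharTwo.add_eq_zero.1 ?_)
    show D z = 0
    rw [C.eq_combo z, hadd, hadd, hA, hB, hWz _ (C.proj_perp z).1 (C.proj_perp z).2]
    simp
  have hv0 : v ≠ 0 := by
    rintro rfl
    rw [mv_zero] at hgv
    exact hgv hv
  obtain ⟨s, hs, l, hl, hsv⟩ := C.move_zero hv hv0
  obtain ⟨h, hh, c, hc, hne⟩ : ∃ h ∈ L, ∃ c : F, c ≠ 0 ∧ qf f a b φ (c • mv h a) ≠ 0 := by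
    have hv' : v = mv s⁻¹ (mv s v) := (mv_inv_mv s v).symm
    have hm := L.mul_mem hg (L.inv_mem (hS hs))
    rcases hsv with hsv | hsv <;> rw [hsv] at hv'
    · refine ⟨g * s⁻¹, hm, l, hl, ?_⟩
      rwa [hv', ← mv_mul, mv_smul] at hgv
    · refine ⟨g * s⁻¹ * g₀, L.mul_mem hm hg₀, l * μ, mul_ne_zero hl hμ, ?_⟩
      rw [hv', ← mv_mul, hb, smul_smul, mv_smul] at hgv
      rwa [hb, mv_mul _ g₀]
  obtain ⟨k, hk⟩ := exists_sq (qf f a b φ (c • mv h a))⁻¹
  have hk0 : k ≠ 0 := fun e => hne (inv_eq_zero.1 (by rw [← hk, e, mul_zero]))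
  obtain ⟨t, ht, htv⟩ := C.move_one hW (v := k • c • mv h a) (by
    rw [C.qf_smul, pow_two, hk, inv_mul_cancel₀ hne])
  refine ⟨t * h, L.mul_mem (hS ht) hh, k * c, mul_ne_zero hk0 hc, ?_⟩
  rw [← htv, smul_smul, mv_smul, mv_mul]

/-- The element of the generated group attached to a vector orthogonal to a and b. -/
theorem point_element [Finite F] (C : Comp hf a b φ) (hW : ∃ u, f u a = 0 ∧ f u b = 0 ∧ u ≠ 0)
    (hua : f u a = 0) (hub : f u b = 0) {s : F} (hd : s * s + φ u ≠ 0) :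
    ∃ e ∈ sgrp hf a b φ, mv e (a + b) = a + b ∧
      ∀ w, f w (a + b) = 0 → mv e w = w + ((s * s + φ u)⁻¹ * f w u) • (u + s • (a + b)) := by
  obtain ⟨p, hp⟩ : ∃ p, p = s • a + s • b + u := ⟨_, rfl⟩
  have hq : qf f a b φ p = s * s + φ u := by rw [hp, C.qf_combo hua hub]
  have hsq := stv_one_sq (hf := hf) (a + b)
  have h1 := Subgroup.inv_mem _ (C.refl_coset hW (v := p) (by rw [hq]; exact hd))
  rw [_root_.mul_inv_rev, stv_inv', stv_inv', hq] at h1
  have hpab : f (a + b) p = 0 := by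
    rw [hp]
    simp only [hf.bilinear.add_left, hf.bilinear.add_right, hf.bilinear.smul_right, hf.alternating, C.hab,
      C.swap.hab, f_symm hf a u, f_symm hf b u, hua, hub]
    ring_nf
    simp [CharTwo.two_eq_zero]
  refine ⟨_, h1, ?_, fun w hw => ?_⟩
  · rw [mv_mul, stv_fix hf _ _ (hf.alternating _), stv_fix hf _ _ hpab]
  · rw [mv_mul, stv_fix hf _ _ hw, mv_stv]
    have e : p = u + s • (a + b) := by rw [hp, smul_add]; abel
    rw [e, hf.bilinear.add_right, hf.bilinear.smul_right, hw, mul_zero, add_zero]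

/-- Outside the exceptional case the group lies in the orthogonal group. -/
theorem le_isometry_or [Finite F] (C : Comp hf a b φ) (h4 : 4 ≤ Fintype.card ι)
    (hL : L ≤ preserving (Units.coeHom (Matrix ι ι F)) f) (P : Pt hf L a φ) (hA : NoTrans hf L a)
    (hS : sgrp hf a b φ ≤ L) {g₀ : GL ι F} (hg₀ : g₀ ∈ L) {μ : F} (hμ : μ ≠ 0) (hb : b = μ • mv g₀ a) :
    L ≤ isometryGroup F (qf f a b φ) ∨ ((∀ x : F, x = 0 ∨ x = 1) ∧ Fintype.card ι = 4 ∧
      (∀ z ≠ 0, ∃ g ∈ L, mv g a = z) ∧ Extra f L a) := by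
  refine or_iff_not_imp_left.2 fun hne => ?_
  have hW := exists_perp (hf := hf) h4 a b
  obtain ⟨h, hh, c, hc, hp⟩ := exists_point C hW hL hS hg₀ hμ hb hne
  obtain ⟨χ, R, hR⟩ : ∃ χ, Pt hf L (a + b) χ ∧ NoTrans hf L (a + b) :=
    ⟨_, hp ▸ (P.map hL hh).smul hc, hp ▸ (hA.map hL hh).smul hc⟩
  have hpb : f (a + b) b = 1 := by rw [hf.bilinear.add_left, C.hab, hf.alternating, add_zero]
  have hup : ∀ u, f u a = 0 → f u b = 0 → f u (a + b) = 0 := fun u h1 h2 => by
    rw [hf.bilinear.add_right, h1, h2, add_zero]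
  have hval : ∀ u, f u a = 0 → f u b = 0 → u ≠ 0 → ∀ s : F, s * s + φ u ≠ 0 → χ u = s * s + φ u := by
    intro u hua hub hu0 s hd
    obtain ⟨e, he, hea, hew⟩ := point_element C hW hua hub hd
    have := hR _ (line_of_transvection hL R (hup u hua hub) (not_mem_span hf hpb hub hu0) (hS he) hea
      (inv_ne_zero hd) hew 1)
    rw [one_smul, one_mul, one_div, inv_inv] at this
    exact CharTwo.add_eq_zero.1 this
  obtain ⟨u, hua, hub, hu0⟩ := hW
  have hq : ∀ x : F, x = 0 ∨ x = 1 := by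
    by_contra hcon
    push Not at hcon
    obtain ⟨x, hx0, hx1⟩ := hcon
    obtain ⟨r, hr⟩ := exists_sq (φ u)
    have good : ∀ s, s ≠ r → s * s + φ u ≠ 0 := fun s hs h =>
      hs (sq_inj (by rw [hr, CharTwo.add_eq_zero.1 h]))
    have key : ∀ s t, s ≠ r → t ≠ r → s = t := fun s t hs ht =>
      sq_inj (add_right_cancel ((hval u hua hub hu0 s (good s hs)).symm.trans (hval u hua hub hu0 t (good t ht))))
    by_cases h0 : (0 : F) = r
    · exact hx1 (key x 1 (fun h => hx0 (h.trans h0.symm)) fun h => one_ne_zero (h.trans h0.symm))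
    · by_cases h1 : (1 : F) = r
      · exact hx0 (key x 0 (fun h => hx1 (h.trans h1.symm)) h0)
      · exact zero_ne_one (key 0 1 h0 h1)
  have hone : ∀ u, f u a = 0 → f u b = 0 → u ≠ 0 → χ u = 1 := fun u h1 h2 h3 => by
    rcases hq (φ u) with e | e
    · rw [hval u h1 h2 h3 1 (by rw [e]; simp), e]; simp
    · rw [hval u h1 h2 h3 0 (by rw [e]; simp), e]; simp
  have hcard : Fintype.card ι = 4 := by
    by_contra hcon
    obtain ⟨v, hva, hvb, huv, hv⟩ := exists_perp_three (hf := hf) (by omega) a b u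
    have hv0 : v ≠ 0 := fun e => hv (e ▸ Submodule.zero_mem _)
    have huv0 : u + v ≠ 0 := fun e => hv (by
      rw [eq_add_of_add_eq ((add_comm v u).trans e), zero_add]; exact Submodule.mem_span_singleton_self u)
    have e := R.add u v (hup u hua hub) (hup v hva hvb)
    rw [hone u hua hub hu0, hone v hva hvb hv0, hone _ (by rw [hf.bilinear.add_left, hua, hva, add_zero])
      (by rw [hf.bilinear.add_left, hub, hvb, add_zero]) huv0, huv, CharTwo.add_self_eq_zero, add_zero] at e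
    exact one_ne_zero e
  refine ⟨hq, hcard, fun z hz => ?_, ?_⟩
  · have one : ∀ {l : F}, l ≠ 0 → l = 1 := fun hl => (hq _).resolve_left hl
    rw [one hμ, one_smul] at hb
    rw [one hc, one_smul] at hp
    rcases hq (qf f a b φ z) with hz' | hz'
    · obtain ⟨s, hs, l, hl, hsz⟩ := C.move_zero hz' hz
      rcases hsz with hsz | hsz <;> rw [one hl, one_smul] at hsz
      · exact ⟨s⁻¹, L.inv_mem (hS hs), by rw [← hsz, mv_inv_mv]⟩
      · exact ⟨s⁻¹ * g₀, L.mul_mem (L.inv_mem (hS hs)) hg₀, by rw [mv_mul, ← hb, ← hsz, mv_inv_mv]⟩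
    · obtain ⟨s, hs, hsz⟩ := C.move_one ⟨u, hua, hub, hu0⟩ hz'
      exact ⟨s⁻¹ * h, L.mul_mem (L.inv_mem (hS hs)) hh, by rw [mv_mul, ← hp, ← hsz, mv_inv_mv]⟩
  · obtain ⟨x, hxa, hxb, hx⟩ := C.exists_value ⟨u, hua, hub, hu0⟩ 1
    obtain ⟨e, he, hea, hew⟩ := point_element C ⟨u, hua, hub, hu0⟩ hxa hxb (s := 0) (by simp [hx])
    have hx0 : x ≠ 0 := fun h0 => by rw [h0, C.zero] at hx; exact zero_ne_one hx
    obtain ⟨w, hw1, hw2⟩ := exists_pair hf (not_mem_span hf hpb hxb hx0) 1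
    refine Extra.transport hf hL hh hc (hp ▸ ⟨e, hS he, hea, w, hw1, ?_⟩)
    rw [hew w hw1, hx, hw2, add_comm w, vadd_cancel]
    simpa using not_mem_span hf hpb hxb hx0

/-- A Pt with no transvections gives an orthogonal group, or the exceptional transitive case. -/
theorem main [Finite F] (h4 : 4 ≤ Fintype.card ι) (hL : L ≤ preserving (Units.coeHom (Matrix ι ι F)) f)
    (P : Pt hf L a φ) (ha : a ≠ 0) (hirr : ∀ z ≠ 0, ∃ g ∈ L, f z (mv g a) ≠ 0) :
    L = preserving (Units.coeHom (Matrix ι ι F)) f ∨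
    (∃ b χ, Comp hf a b χ ∧ (L = isometryGroup F (qf f a b χ) ∨
      ∀ g : GL ι F, g ∈ L ↔ g ∈ isometryGroup F (qf f a b χ) ∧ Even ((g : Matrix ι ι F) - 1).rank)) ∨
    ((∀ x : F, x = 0 ∨ x = 1) ∧ Fintype.card ι = 4 ∧ (∀ z ≠ 0, ∃ g ∈ L, mv g a = z) ∧ Extra f L a) := by
  obtain ⟨g₀, hg₀, hne⟩ := hirr a ha
  obtain ⟨μ, hμ⟩ : ∃ μ, μ = (f a (mv g₀ a))⁻¹ := ⟨_, rfl⟩
  have hμ0 : μ ≠ 0 := by rw [hμ]; exact inv_ne_zero hne
  obtain ⟨b, hb⟩ : ∃ b, b = μ • mv g₀ a := ⟨_, rfl⟩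
  have hab : f a b = 1 := by rw [hb, hf.bilinear.smul_right, hμ, inv_mul_cancel₀ hne]
  have hba : f b a = 1 := by rw [f_symm hf, hab]
  obtain ⟨ψ, Q, hQ'⟩ : ∃ ψ, Pt hf L b ψ ∧ (NoTrans hf L a → NoTrans hf L b) :=
    ⟨_, hb ▸ (P.map hL hg₀).smul hμ0, fun h => hb ▸ (h.map hL hg₀).smul hμ0⟩
  obtain ⟨u, hua, hub, hu0⟩ := exists_perp (hf := hf) h4 a b
  by_cases hA : NoTrans hf L a
  swap
  · simp only [NoTrans, not_forall] at hA
    obtain ⟨r, hr, hr0⟩ := hA
    refine Or.inl (eq_sp_of_stv hL P Q hab hua hub hu0 ⟨r, hr0, hr⟩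
      ⟨r / (μ * μ), div_ne_zero hr0 (mul_ne_zero hμ0 hμ0), ?_⟩)
    rw [hb, stv_smul, mul_div_cancel₀ _ (mul_ne_zero hμ0 hμ0)]
    exact stv_mem_map hL hg₀ hr
  have hB := hQ' hA
  by_cases hgood : ∀ w, f w a = 0 → f w b = 0 → (∀ l : F, φ (l • w) = l * l * φ w) ∧ ψ w = φ w
  · have C : Comp hf a b φ :=
      ⟨hab, fun v w h1 _ h3 _ => P.add v w h1 h3, fun v h1 h2 l => (hgood v h1 h2).1 l⟩
    have hS : sgrp hf a b φ ≤ L := by
      refine (Subgroup.closure_le L).2 ?_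
      rintro g ⟨w, h1, h2, rfl | rfl⟩
      · exact P.mem w h1
      · rw [← (hgood w h1 h2).2]; exact Q.mem w h2
    rcases le_isometry_or C h4 hL P hA hS hg₀ hμ0 hb with hle | h
    · refine Or.inr (Or.inl ⟨b, φ, C, ?_⟩)
      by_cases hr : L ≤ sgrp hf a b φ
      · refine Or.inr fun g => ?_
        rw [← C.sgrp_iff ⟨u, hua, hub, hu0⟩ (by omega) g]
        exact ⟨fun hg => hr hg, fun hg => hS hg⟩
      · refine Or.inl (le_antisymm hle fun g hg => ?_)
        obtain ⟨x, hx, hxS⟩ := SetLike.not_le_iff_exists.1 hr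
        have hrx := (C.mem_or ⟨u, hua, hub, hu0⟩ (hle hx)).resolve_left hxS
        have hrL : stv hf (a + b) (1 : F) ∈ L := by
          simpa using L.mul_mem (hS hrx) (L.inv_mem hx)
        rcases C.mem_or ⟨u, hua, hub, hu0⟩ hg with hg' | hg'
        · exact hS hg'
        · simpa using L.mul_mem (L.inv_mem hrL) (hS hg')
    · exact Or.inr (Or.inr h)
  have hq : ∀ x : F, x = 0 ∨ x = 1 := by
    by_contra hcon
    push Not at hcon
    exact hgood fun w h1 h2 => quadratic_of_many hL P Q hab hA hB hcon h1 h2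
  obtain ⟨w, hwa, hwb, hne'⟩ : ∃ w, f w a = 0 ∧ f w b = 0 ∧ ψ w ≠ φ w := by
    by_contra hcon
    push Not at hcon
    refine hgood fun w h1 h2 => ⟨fun l => ?_, hcon w h1 h2⟩
    rcases hq l with rfl | rfl
    · simp [P.zero]
    · simp
  have hμ1 : μ = 1 := (hq μ).resolve_left hμ0
  have hbg : mv g₀ a = b := by rw [hb, hμ1, one_smul]
  have htr : ∀ z ≠ 0, ∃ g ∈ L, mv g a = z := fun z hz =>
    transitive_of_ne hL hq hirr ⟨g₀, hg₀, hbg⟩ P Q hab hwa hwb hne' hz
  have hcard : Fintype.card ι = 4 := by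
    by_contra hcon
    obtain ⟨v, hva, hvb, huv, hv⟩ := exists_perp_three (hf := hf) (by omega) a b u
    exact not_transitive hL hq P hA hab hua hub hva hvb huv hu0 (fun e => hv (e ▸ Submodule.zero_mem _))
      (fun e => hv (e ▸ Submodule.mem_span_singleton_self u)) htr
  refine Or.inr (Or.inr ⟨hq, hcard, htr, ?_⟩)
  have mk : ∀ {a b : ι → F} {φ ψ : (ι → F) → F}, Pt hf L a φ → Pt hf L b ψ → f a b = 1 → f w a = 0 →
      f w b = 0 → φ w = 1 → ψ w = 0 → Extra f L a := by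
    intro a b φ ψ P Q hab hwa hwb h1 h0
    have hw0 : w ≠ 0 := fun e => by rw [e, P.zero] at h1; exact zero_ne_one h1
    have hs : stv hf b (ψ w) ∈ L := by rw [h0, stv_zero]; exact L.one_mem
    have he := key hL P Q hab hwa hwb hs 1
    rw [one_smul, h1] at he
    obtain ⟨z, hz1, hz2⟩ := exists_pair hf (not_mem_span hf hab hwb hw0) 1
    refine ⟨_, he, (pair_fix hwa 1).1, z, hz1, ?_⟩
    rw [(pair_fix hwa (1 : F)).2 z hz1, hz2, one_mul, one_smul, add_comm z, vadd_cancel]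
    intro h
    refine not_mem_span hf hab hwb hw0 ?_
    rw [← vadd_cancel w a, add_comm w a]
    exact Submodule.add_mem _ h (Submodule.mem_span_singleton_self a)
  rcases hq (φ w) with h1 | h1 <;> rcases hq (ψ w) with h2 | h2
  · exact absurd (h2.trans h1.symm) hne'
  · refine Extra.transport hf hL hg₀ one_ne_zero ?_
    rw [one_smul, hbg]
    exact mk Q P hba hwb hwa h2 h1
  · exact mk P Q hab hwa hwb h1 h2
  · exact absurd (h2.trans h1.symm) hne'

end Cfsg.Agent.Dye
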