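/-
The normal 2-subgroups of a point stabiliser lie in the unipotent radical, and a complement of the
transvections in it gives the map φ.
-/
import Cfsg.Agent.Lib.DyeQuad.Main
import Cfsg.Agent.Lib.Perm.Modules
import Cfsg.Prelude.Def_Solvable
set_option autoImplicit false

namespace Cfsg.Agent.Dye

open scoped Matrix
open Matrix Cfsg.Agent.Transvec

variable {ι : Type} [Fintype ι] [DecidableEq ι] {F : Type*} [Field F] [CharP F 2]
variable {f : (ι → F) → (ι → F) → F} {hf : Geo.IsSymplecticForm f} {a b : ι → F}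

include hf in
theorem core_trivial [Finite F] (hab : f a b = 1) (h4 : 4 ≤ Fintype.card ι) {H : Subgroup (GL ι F)}
    (hH : ∀ g, g ∈ H ↔ g ∈ preserving (Units.coeHom (Matrix ι ι F)) f ∧ mv g a = a) {g : H}
    (hg : g ∈ pCore 2 H) {v : ι → F} (hv : f v a = 0) : mv g.1 v + v ∈ Submodule.span F {a} := by
  set S : Submodule F (ι → F) := Submodule.span F {a} with hS
  have hSfix : ∀ (g : H) (x : ι → F), x ∈ S → mv g.1 x = x := fun g x hx => by
    obtain ⟨t, rfl⟩ := Submodule.mem_span_singleton.1 hx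
    rw [mv_smul, ((hH g.1).1 g.2).2]
  let K : Subgroup H :=
    { carrier := {g | ∀ v, f v a = 0 → mv g.1 v + v ∈ S}
      mul_mem' := fun {x y} hx hy v hv => by
        have h1 := hy v hv
        have h2 : f (mv y.1 v) a = 0 := by
          have e : f (mv y.1 v) (mv y.1 a) = f v a := ((hH y.1).1 y.2).1 v a
          rwa [((hH y.1).1 y.2).2, hv] at e
        have h3 := S.add_mem (hx _ h2) h1
        show mv (x.1 * y.1) v + v ∈ S
        rwa [mv_mul, ← add_assoc, vadd_cancel] at *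
      one_mem' := fun v _ => by
        show mv (1 : GL ι F) v + v ∈ S
        rw [mv_one, vadd_self]; exact S.zero_mem
      inv_mem' := fun {x} hx v hv => by
        show mv (x.1⁻¹) v + v ∈ S
        have h2 : f (mv x.1⁻¹ v) a = 0 := by
          have e : f (mv x.1 (mv x.1⁻¹ v)) (mv x.1 a) = f (mv x.1⁻¹ v) a := ((hH x.1).1 x.2).1 _ _
          rwa [mv_mv_inv, ((hH x.1).1 x.2).2, hv, eq_comm] at e
        have := hx _ h2
        rwa [mv_mv_inv, add_comm] at this }
  suffices hle : pCore 2 H ≤ K from hle hg v hv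
  refine sSup_le fun N ⟨hN, hNp⟩ g hg v hv => ?_
  show mv g.1 v + v ∈ S
  haveI : Finite (GL ι F) := inferInstance
  have hmap : ∀ g : H, S ≤ S.comap (mvLin g.1) := fun g x hx => by
    rw [Submodule.mem_comap, show mvLin g.1 x = mv g.1 x by simp, hSfix g x hx]; exact hx
  let ρ : Representation F N ((ι → F) ⧸ S) :=
    { toFun := fun g => S.mapQ S (mvLin g.1.1) (hmap g.1)
      map_one' := LinearMap.ext fun x => by
        obtain ⟨y, rfl⟩ := Submodule.Quotient.mk_surjective S x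
        simp
      map_mul' := fun g h => LinearMap.ext fun x => by
        obtain ⟨y, rfl⟩ := Submodule.Quotient.mk_surjective S x
        simp [Matrix.toLin'_mul] }
  obtain ⟨u, hua, hub, hu0⟩ := exists_perp (hf := hf) h4 a b
  have huS : u ∉ S := not_mem_span hf hab hub hu0
  let W : Submodule F ((ι → F) ⧸ S) := (LinearMap.ker (formR hf a)).map S.mkQ
  haveI : Fact (Nat.Prime 2) := ⟨Nat.prime_two⟩
  obtain ⟨x, hxW, hx0, hxfix⟩ := PermModules.exists_fixed_vector (p := 2) hNp ρ W (by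
      rintro g _ ⟨y, hy, rfl⟩
      refine ⟨mv g.1.1 y, ?_, by simp [ρ]⟩
      have e : f (mv g.1.1 y) (mv g.1.1 a) = f y a := ((hH g.1.1).1 g.1.2).1 y a
      rw [((hH g.1.1).1 g.1.2).2, show f y a = 0 from hy] at e
      exact e)
    (w := S.mkQ u) ⟨u, hua, rfl⟩ (fun h => huS ((Submodule.Quotient.mk_eq_zero S).1 h))
  obtain ⟨v₀, hv₀, rfl⟩ := hxW
  have hv₀a : f v₀ a = 0 := hv₀
  have hv₀S : v₀ ∉ S := fun h => hx0 ((Submodule.Quotient.mk_eq_zero S).2 h)
  have hfix : ∀ k : N, mv k.1.1 v₀ + v₀ ∈ S := fun k => by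
    have e := hxfix k
    simp only [ρ, MonoidHom.coe_mk, OneHom.coe_mk, Submodule.mkQ_apply, Submodule.mapQ_apply,
      Submodule.Quotient.eq] at e
    rw [← sub_neg_eq_add, show -v₀ = v₀ from funext fun i => CharTwo.neg_eq (v₀ i)]
    simpa using e
  by_cases hvS : v ∈ S
  · rw [hSfix g v hvS, vadd_self]; exact S.zero_mem
  obtain ⟨z, hza, hz1, hz2⟩ : ∃ z, f z a = 0 ∧ f v₀ z ≠ 0 ∧ f v z ≠ 0 := by
    obtain ⟨z₁, h1a, h1⟩ := exists_pair hf hv₀S 1
    obtain ⟨z₂, h2a, h2⟩ := exists_pair hf hvS 1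
    rw [f_symm hf] at h1 h2
    by_cases e1 : f v z₁ = 0
    · by_cases e2 : f v₀ z₂ = 0
      · exact ⟨z₁ + z₂, by rw [hf.bilinear.add_left, h1a, h2a, add_zero],
          by rw [hf.bilinear.add_right, h1, e2, add_zero]; exact one_ne_zero,
          by rw [hf.bilinear.add_right, e1, h2, zero_add]; exact one_ne_zero⟩
      · exact ⟨z₂, h2a, e2, by rw [h2]; exact one_ne_zero⟩
    · exact ⟨z₁, h1a, by rw [h1]; exact one_ne_zero, e1⟩
  obtain ⟨h, hh, hhv, -⟩ := exists_move hf (K := H) (X := LinearMap.ker (formR hf a))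
    (fun x hx c => (hH _).2 ⟨stv_mem hf x c, stv_fix hf _ _ ((f_eq_zero_comm hf).1 hx)⟩)
    (u := v₀) (w := v) hv₀a hv (Or.inr ⟨z, hza, hz1, hz2⟩)
  have hk := hfix ⟨(⟨h, hh⟩ : H)⁻¹ * g * ⟨h, hh⟩, by simpa using hN.conj_mem g hg (⟨h, hh⟩ : H)⁻¹⟩
  have e : mv g.1 v + v = mv h (mv (h⁻¹ * g.1 * h) v₀ + v₀) := by
    rw [mv_add, mv_mul, mv_mul, mv_mv_inv, hhv]
  have hk' : mv (h⁻¹ * g.1 * h) v₀ + v₀ ∈ S := hk
  have hfx : mv h (mv (h⁻¹ * g.1 * h) v₀ + v₀) = mv (h⁻¹ * g.1 * h) v₀ + v₀ := hSfix ⟨h, hh⟩ _ hk'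
  rw [e, hfx]
  exact hk' 

/-- An isometry fixing a and trivial on the quotient of its orthogonal space has the standard shape. -/
theorem eq_gel (hab : f a b = 1) {g : GL ι F} (hg : g ∈ preserving (Units.coeHom (Matrix ι ι F)) f)
    (hga : mv g a = a) (htriv : ∀ v, f v a = 0 → mv g v + v ∈ Submodule.span F {a}) :
    ∃ w c, f w a = 0 ∧ f w b = 0 ∧ g = gel hf a w c := by
  have hg' : ∀ x y, f (mv g x) (mv g y) = f x y := hg
  have hba : f b a = 1 := by rw [f_symm hf, hab]
  obtain ⟨w₀, hw₀⟩ : ∃ w₀, w₀ = mv g b + b := ⟨_, rfl⟩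
  have hgb : mv g b = b + w₀ := by rw [hw₀, add_comm (mv g b), ← add_assoc, vadd_self, zero_add]
  have hw₀a : f w₀ a = 0 := by
    have e := hg' b a
    rw [hga, hgb, hf.bilinear.add_left, hba] at e
    simpa using e
  obtain ⟨c, hc⟩ : ∃ c, c = f w₀ b := ⟨_, rfl⟩
  obtain ⟨w, hw⟩ : ∃ w, w = w₀ + c • a := ⟨_, rfl⟩
  have hwa : f w a = 0 := by rw [hw, hf.bilinear.add_left, hf.bilinear.smul_left, hw₀a, hf.alternating]; simp
  have hwb : f w b = 0 := by
    rw [hw, hf.bilinear.add_left, hf.bilinear.smul_left, hab, ← hc, mul_one, CharTwo.add_self_eq_zero]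
  refine ⟨w, c, hwa, hwb, ext_mv fun v => ?_⟩
  have hb' : mv (gel hf a w c) b = mv g b := by
    rw [mv_gel hf hwa, hba, f_symm hf b w, hwb, hgb, hw, one_smul, zero_add, mul_one, ← add_assoc, vadd_cancel]
  have hperp : ∀ x, f x a = 0 → mv (gel hf a w c) x = mv g x := fun x hx => by
    obtain ⟨l, hl⟩ := Submodule.mem_span_singleton.1 (htriv x hx)
    have hgx : mv g x = x + l • a := by rw [hl, add_comm (mv g x), ← add_assoc, vadd_self, zero_add]
    have e := hg' x b
    rw [hgb, hgx] at e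
    simp only [hf.bilinear.add_left, hf.bilinear.add_right, hf.bilinear.smul_left, hab, f_symm hf a w₀, hw₀a,
      mul_zero, add_zero, mul_one] at e
    have hl' : l = f x w₀ := by
      linear_combination e - f x w₀ * (CharTwo.two_eq_zero (R := F))
    rw [mv_gel_perp hf hwa hx, hgx, hw, hf.bilinear.add_right, hf.bilinear.smul_right, hx, hl']
    simp
  obtain ⟨x, t, hx, rfl⟩ : ∃ x t, f x a = 0 ∧ v = x + t • b :=
    ⟨v + f v a • b, f v a, by rw [hf.bilinear.add_left, hf.bilinear.smul_left, hba, mul_one,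
      CharTwo.add_self_eq_zero], (vadd_cancel _ _).symm⟩
  rw [mv_add, mv_add, mv_smul, mv_smul, hb', hperp x hx]

/-- A complement of the transvections in the radical gives the point structure. -/
theorem exists_pt [Finite F] {m : ℕ} (hm : Fintype.card ι = m + 2) (hab : f a b = 1) {X : Subgroup (GL ι F)}
    (hX : ∀ g ∈ X, ∃ w c, f w a = 0 ∧ f w b = 0 ∧ g = gel hf a w c) (hcard : Nat.card X = Nat.card F ^ m)
    (hntv : ∀ r, stv hf a r ∈ X → r = 0) {L : Subgroup (GL ι F)} (hXL : X ≤ L) :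
    ∃ φ, Pt hf L a φ := by
  classical
  let T : (ι → F) →ₗ[F] (Fin 2 → F) := LinearMap.pi ![formR hf a, formR hf b]
  have hT : ∀ w, w ∈ LinearMap.ker T ↔ f w a = 0 ∧ f w b = 0 := fun w => by
    refine ⟨fun hw => ⟨congrFun (LinearMap.mem_ker.1 hw) 0, congrFun (LinearMap.mem_ker.1 hw) 1⟩,
      fun ⟨h1, h2⟩ => LinearMap.mem_ker.2 (funext fun i => ?_)⟩
    fin_cases i <;> simp [T, formR_apply, h1, h2]
  have hWcard : Nat.card ↥(LinearMap.ker T) = Nat.card F ^ m := by
    have hsurj : Function.Surjective T := fun x => by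
      refine ⟨x 1 • a + x 0 • b, funext fun i => ?_⟩
      fin_cases i <;> simp [T, formR_apply, hf.bilinear.add_left, hf.bilinear.smul_left, hf.alternating, hab, f_symm hf b a]
    have := LinearMap.finrank_range_add_finrank_ker T
    rw [LinearMap.range_eq_top.2 hsurj, finrank_top, Module.finrank_fin_fun, Module.finrank_pi, hm] at this
    rw [Module.natCard_eq_pow_finrank (K := F), show Module.finrank F ↥(LinearMap.ker T) = m by omega]
  choose W C hWa hWb hWC using fun g : X => hX g.1 g.2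
  let π : X → ↥(LinearMap.ker T) := fun g => ⟨W g, (hT _).2 ⟨hWa g, hWb g⟩⟩
  have hπ : Function.Injective π := fun g h e => by
    have e' : W g = W h := congrArg Subtype.val e
    have h1 := X.mul_mem g.2 h.2
    rw [hWC g, hWC h, ← e', gel_mul hf (hWa g) (hWa g), vadd_self, hf.alternating, add_zero, gel_zero] at h1
    exact Subtype.ext (by rw [hWC g, hWC h, ← e', CharTwo.add_eq_zero.1 (hntv _ h1)])
  have hbij := (Nat.bijective_iff_injective_and_card π).2 ⟨hπ, hcard.trans hWcard.symm⟩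
  have hex : ∀ w, f w a = 0 → ∃ c, gel hf a w c ∈ X := fun w hw => by
    obtain ⟨g, hg⟩ := hbij.2 ⟨w + f w b • a, (hT _).2 ⟨by
      rw [hf.bilinear.add_left, hf.bilinear.smul_left, hw, hf.alternating]; simp, by
      rw [hf.bilinear.add_left, hf.bilinear.smul_left, hab, mul_one, CharTwo.add_self_eq_zero]⟩⟩
    refine ⟨C g, ?_⟩
    rw [← gel_add_smul hf hw (C g) (f w b), ← show W g = w + f w b • a from congrArg Subtype.val hg, ← hWC g]
    exact g.2
  have huniq : ∀ w c c', f w a = 0 → gel hf a w c ∈ X → gel hf a w c' ∈ X → c = c' := fun w c c' hw h h' => by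
    have h1 := X.mul_mem h h'
    rw [gel_mul hf hw hw, vadd_self, hf.alternating, add_zero, gel_zero] at h1
    exact CharTwo.add_eq_zero.1 (hntv _ h1)
  choose! φ hφ using hex
  refine ⟨φ, ⟨fun v w hv hw => ?_, fun t => ?_, fun w hw => hXL (hφ w hw)⟩⟩
  · have hvw : f (v + w) a = 0 := by rw [hf.bilinear.add_left, hv, hw, add_zero]
    refine huniq _ _ _ hvw (hφ _ hvw) ?_
    rw [← gel_mul hf hv hw]
    exact X.mul_mem (hφ v hv) (hφ w hw)
  · have h0 : f (t • a) a = 0 := by rw [hf.bilinear.smul_left, hf.alternating, mul_zero]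
    refine hntv _ ?_
    have := hφ _ h0
    rwa [← zero_add (t • a), gel_add_smul hf (f_zero_left hf a), gel_zero, zero_add] at this

/-- A transvection moves through a line only. -/
theorem rank_stv (ha : a ≠ 0) (hab : f a b = 1) {r : F} (hr : r ≠ 0) :
    ((stv hf a r : Matrix ι ι F) - 1).rank = 1 := by
  rw [← Orth.moveRank_eq_rank, Orth.moveRank,
    show LinearMap.range (Orth.moveLin (stv hf a r)) = Submodule.span F {a} from ?_, finrank_span_singleton ha]
  refine le_antisymm ?_ ((Submodule.span_singleton_le_iff_mem _ _).2 ⟨r⁻¹ • b, ?_⟩)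
  · rintro _ ⟨x, rfl⟩
    rw [Orth.moveLin_apply, mv_stv, add_sub_cancel_left]
    exact Submodule.smul_mem _ _ (Submodule.mem_span_singleton_self a)
  · rw [Orth.moveLin_apply, mv_stv, add_sub_cancel_left, hf.bilinear.smul_left, f_symm hf b a, hab, mul_one,
      mul_inv_cancel₀ hr, one_smul]

end Cfsg.Agent.Dye
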