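/-
Dimension four over two elements: a transitive group with a larger point stabiliser is the symplectic group,
the alternating group of degree six, or the symmetric group of degree five.
-/
import Cfsg.Agent.Lib.DyeQuad.Main
import Mathlib.GroupTheory.SpecificGroups.Alternating.Simple
set_option autoImplicit false

namespace Cfsg.Agent.Dye

open scoped Matrix
open Matrix Cfsg.Agent.Transvec

/-- The stabiliser of the first of six points is the symmetric group on five. -/
theorem exists_perm_five {K : Subgroup (Equiv.Perm (Fin 6))} (hK : Nat.card K = 120) :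
    Nonempty (K ≃* Equiv.Perm (Fin 5)) := by
  classical
  haveI : Fintype (Equiv.Perm (Fin 6) ⧸ K) := Fintype.ofFinite _
  have hidx : K.index = 6 := by
    have := K.card_mul_index
    rw [hK, Nat.card_perm, Nat.card_fin] at this
    norm_num [Nat.factorial] at this
    omega
  let ρ := MulAction.toPermHom (Equiv.Perm (Fin 6)) (Equiv.Perm (Fin 6) ⧸ K)
  have hinj : Function.Injective ρ := by
    rw [← MonoidHom.ker_eq_bot_iff]
    by_contra hne
    have h1 := Equiv.Perm.alternatingGroup_le_of_normal (by simp) (N := ρ.ker)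
      ((Subgroup.nontrivial_iff_ne_bot _).2 hne)
    rw [← Subgroup.normalCore_eq_ker] at h1
    have h2 := Subgroup.index_dvd_of_le (h1.trans (Subgroup.normalCore_le K))
    rw [hidx, alternatingGroup.index_eq_two] at h2
    norm_num at h2
  let p₀ : Equiv.Perm (Fin 6) ⧸ K := QuotientGroup.mk 1
  let P : (Equiv.Perm (Fin 6) ⧸ K) → Prop := fun x => x ≠ p₀
  have hfix : ∀ k : K, ρ k p₀ = p₀ := fun k => by
    show (k : Equiv.Perm (Fin 6)) • (QuotientGroup.mk 1 : Equiv.Perm (Fin 6) ⧸ K) = QuotientGroup.mk 1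
    rw [MulAction.Quotient.smul_mk, QuotientGroup.eq]
    simp
  have hP : ∀ (k : K) (x : Equiv.Perm (Fin 6) ⧸ K), P x ↔ P (ρ k x) := fun k x => by
    show x ≠ p₀ ↔ ρ k x ≠ p₀
    nth_rewrite 2 [← hfix k]
    exact not_congr ((ρ k).injective.eq_iff).symm
  let θ : K →* Equiv.Perm {x // P x} :=
    { toFun := fun k => (ρ k).subtypePerm fun x => (hP k x).symm
      map_one' := Equiv.ext fun x => Subtype.ext (by simp)
      map_mul' := fun k l => Equiv.ext fun x => Subtype.ext (by
        show ρ ((k : Equiv.Perm (Fin 6)) * l) x.1 = ρ k (ρ l x.1)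
        rw [map_mul]; rfl) }
  have hθ : Function.Injective θ := fun k l h => by
    refine Subtype.ext (hinj (Equiv.ext fun x => ?_))
    by_cases hx : P x
    · exact congrArg Subtype.val (Equiv.congr_fun h ⟨x, hx⟩)
    · rw [not_not.1 hx, hfix k, hfix l]
  have hc : Nat.card {x // P x} = 5 := by
    rw [Nat.card_eq_fintype_card, Fintype.card_subtype_compl, Fintype.card_subtype_eq,
      ← Nat.card_eq_fintype_card, ← Subgroup.index, hidx]
  let e : {x // P x} ≃ Fin 5 := (Finite.equivFin _).trans (finCongr hc)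
  refine ⟨MulEquiv.ofBijective (e.permCongrHom.toMonoidHom.comp θ)
    ((Nat.bijective_iff_injective_and_card _).2 ⟨e.permCongrHom.injective.comp hθ, ?_⟩)⟩
  rw [hK, Nat.card_perm, Nat.card_fin]
  norm_num [Nat.factorial]

/-- Subgroups of the symmetric group of degree six of order a proper multiple of sixty. -/
theorem perm_six_big {K : Subgroup (Equiv.Perm (Fin 6))} (h60 : 60 ∣ Nat.card K) (hne : Nat.card K ≠ 60) :
    K = ⊤ ∨ K = alternatingGroup (Fin 6) ∨ Nat.card K = 120 := by
  classical
  haveI : Fintype (Equiv.Perm (Fin 6) ⧸ K) := Fintype.ofFinite _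
  have h := K.card_mul_index
  rw [Nat.card_perm, Nat.card_fin] at h
  obtain ⟨c, hc⟩ := h60
  rw [hc] at h hne
  rw [show Nat.factorial 6 = 720 by rfl] at h
  have hci : c * K.index = 12 := by rw [mul_assoc] at h; omega
  have hc1 : c ≠ 1 := fun e => hne (by rw [e])
  have small : K.index ≤ 4 → K.index ≤ 2 := fun h4 => by
    let ρ := MulAction.toPermHom (Equiv.Perm (Fin 6)) (Equiv.Perm (Fin 6) ⧸ K)
    have hnb : ρ.ker ≠ ⊥ := fun hb => by
      have h1 := Nat.card_le_card_of_injective ρ ((MonoidHom.ker_eq_bot_iff ρ).1 hb)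
      rw [Nat.card_perm, Nat.card_fin, Nat.card_perm, ← Subgroup.index] at h1
      have h2 := h1.trans (Nat.factorial_le h4)
      norm_num [Nat.factorial] at h2
    have h1 := Equiv.Perm.alternatingGroup_le_of_normal (by simp) (N := ρ.ker)
      ((Subgroup.nontrivial_iff_ne_bot _).2 hnb)
    rw [← Subgroup.normalCore_eq_ker] at h1
    have h2 := Subgroup.index_dvd_of_le (h1.trans (Subgroup.normalCore_le K))
    rw [alternatingGroup.index_eq_two] at h2
    exact Nat.le_of_dvd two_pos h2
  have hd : K.index ∣ 12 := ⟨c, by rw [← hci, mul_comm]⟩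
  have : K.index = 1 ∨ K.index = 2 ∨ K.index = 6 := by
    have hle : K.index ≤ 12 := Nat.le_of_dvd (by norm_num) hd
    have h12 : K.index ≠ 12 := fun e => hc1 (by rw [e] at hci; omega)
    have h34 : ¬ (3 ≤ K.index ∧ K.index ≤ 4) := fun ⟨a, b⟩ => by have := small b; omega
    generalize K.index = i at *
    interval_cases i <;> omega
  rcases this with e | e | e
  · exact Or.inl (Subgroup.index_eq_one.1 e)
  · exact Or.inr (Or.inl (Equiv.Perm.eq_alternatingGroup_of_index_eq_two e))
  · exact Or.inr (Or.inr (by rw [e] at hci; rw [hc]; omega))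

variable {ι : Type} [Fintype ι] [DecidableEq ι] {F : Type*} [Field F] [CharP F 2]
variable {f : (ι → F) → (ι → F) → F} {hf : Geo.IsSymplecticForm f}
variable {L : Subgroup (GL ι F)} {a : ι → F} {φ : (ι → F) → F}

include hf in
/-- A transitive group in dimension four over two elements. -/
theorem classify_four [Finite F] (hq : ∀ x : F, x = 0 ∨ x = 1) (hι : Fintype.card ι = 4)
    (hL : L ≤ preserving (Units.coeHom (Matrix ι ι F)) f) (P : Pt hf L a φ) (ha : a ≠ 0)
    (htr : ∀ z ≠ 0, ∃ g ∈ L, mv g a = z) (hE : Extra f L a)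
    (e : ↥(preserving (Units.coeHom (Matrix ι ι F)) f) ≃* Equiv.Perm (Fin 6)) :
    L = preserving (Units.coeHom (Matrix ι ι F)) f ∨
      (Nonempty (↥L ≃* ↥(alternatingGroup (Fin 6))) ∨ Nonempty (↥L ≃* Equiv.Perm (Fin 5))) := by
  classical
  letI : Fintype F := Fintype.ofFinite F
  have hF : Fintype.card F = 2 := by
    refine le_antisymm ?_ Fintype.one_lt_card
    calc Fintype.card F = (Finset.univ : Finset F).card := rfl
      _ ≤ ({0, 1} : Finset F).card := Finset.card_le_card fun x _ => by simpa using hq x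
      _ ≤ 2 := Finset.card_le_two
  letI act : MulAction L (ι → F) :=
    { smul := fun g v => mv g.1 v
      one_smul := fun v => mv_one v
      mul_smul := fun g h v => mv_mul g.1 h.1 v }
  have horb : MulAction.orbit L a = ({0}ᶜ : Set (ι → F)) := by
    ext z
    refine ⟨?_, fun hz => ?_⟩
    · rintro ⟨g, rfl⟩ h
      exact ha (mv_inj g.1 ((show mv g.1 a = 0 from h).trans (mv_zero g.1).symm))
    · obtain ⟨g, hg, rfl⟩ := htr z hz
      exact ⟨⟨g, hg⟩, rfl⟩
  have h15 : Nat.card (MulAction.orbit L a) = 15 := by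
    rw [horb, Nat.card_coe_set_eq, Set.ncard_compl, Set.ncard_singleton, Nat.card_eq_fintype_card,
      Fintype.card_fun, hF, hι]
    norm_num
  have hcard : Nat.card L = 15 * Nat.card (MulAction.stabilizer L a) := by
    rw [← h15, Nat.card_congr (MulAction.orbitEquivQuotientStabilizer L a),
      ← Subgroup.card_eq_card_quotient_mul_card_subgroup]
  obtain ⟨y, hy⟩ := (hf.nondegenerate a ha).2
  obtain ⟨b, hb⟩ : ∃ b, b = y := ⟨y, rfl⟩
  have hab : f a b = 1 := by rw [hb]; exact (hq _).resolve_left hy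
  let T : (ι → F) →ₗ[F] (Fin 2 → F) := LinearMap.pi ![formR hf a, formR hf b]
  have hT : ∀ w ∈ LinearMap.ker T, f w a = 0 ∧ f w b = 0 := fun w hw =>
    ⟨congrFun (LinearMap.mem_ker.1 hw) 0, congrFun (LinearMap.mem_ker.1 hw) 1⟩
  have hWfin : Module.finrank F ↥(LinearMap.ker T) = 2 := by
    have hsurj : Function.Surjective T := fun x => by
      refine ⟨x 1 • a + x 0 • b, funext fun i => ?_⟩
      fin_cases i <;>
        simp [T, formR_apply, hf.bilinear.add_left, hf.bilinear.smul_left, hf.alternating, hab, f_symm hf b a]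
    have := LinearMap.finrank_range_add_finrank_ker T
    rw [LinearMap.range_eq_top.2 hsurj, finrank_top, Module.finrank_fin_fun, Module.finrank_pi, hι] at this
    omega
  let θ : Multiplicative ↥(LinearMap.ker T) →* MulAction.stabilizer L a :=
    { toFun := fun w => ⟨⟨_, P.mem (Multiplicative.toAdd w).1 (hT _ (Multiplicative.toAdd w).2).1⟩,
        mv_gel_self hf (hT _ (Multiplicative.toAdd w).2).1 _⟩
      map_one' := Subtype.ext (Subtype.ext (by simp [P.zero, gel_zero, stv_zero]))
      map_mul' := fun v w => Subtype.ext (Subtype.ext (by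
        show gel hf a _ _ = gel hf a _ _ * gel hf a _ _
        rw [gel_mul hf (hT _ (Multiplicative.toAdd v).2).1 (hT _ (Multiplicative.toAdd w).2).1,
          ← P.add _ _ (hT _ (Multiplicative.toAdd v).2).1 (hT _ (Multiplicative.toAdd w).2).1]
        rfl)) }
  have hθ : Function.Injective θ := (injective_iff_map_eq_one θ).2 fun w hw => by
    have h1 : gel hf a (Multiplicative.toAdd w).1 (φ (Multiplicative.toAdd w).1) = 1 :=
      congrArg (fun g : MulAction.stabilizer L a => g.1.1) hw
    have h2 := gel_eq_one hf (hT _ (Multiplicative.toAdd w).2).1 hab (hT _ (Multiplicative.toAdd w).2).2 h1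
    exact Subtype.ext h2.1
  have h4 : Nat.card θ.range = 4 := by
    rw [← Nat.card_congr (MonoidHom.ofInjective hθ).toEquiv, Nat.card_congr Multiplicative.toAdd,
      Module.natCard_eq_pow_finrank (K := F), hWfin, Nat.card_eq_fintype_card, hF]
    norm_num
  have hdvd : 4 ∣ Nat.card (MulAction.stabilizer L a) := h4 ▸ Subgroup.card_subgroup_dvd_card θ.range
  have hne4 : Nat.card (MulAction.stabilizer L a) ≠ 4 := fun heq => by
    obtain ⟨g, hg, hga, w, hwa, hgw⟩ := hE
    have htop : θ.range = ⊤ := Subgroup.eq_top_of_card_eq _ (h4.trans heq.symm)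
    obtain ⟨x, hx⟩ := htop.ge (Subgroup.mem_top (⟨⟨g, hg⟩, hga⟩ : MulAction.stabilizer L a))
    have h1 : gel hf a (Multiplicative.toAdd x).1 (φ (Multiplicative.toAdd x).1) = g :=
      congrArg (fun g : MulAction.stabilizer L a => g.1.1) hx
    apply hgw
    rw [← h1, mv_gel_perp hf (hT _ (Multiplicative.toAdd x).2).1 hwa, add_comm w, vadd_cancel]
    exact Submodule.smul_mem _ _ (Submodule.mem_span_singleton_self a)
  obtain ⟨c, hc⟩ := hdvd
  set K := (L.subgroupOf _).map e.toMonoidHom
  let eL : L ≃* K := (Subgroup.subgroupOfEquivOfLe hL).symm.trans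
    ((L.subgroupOf _).equivMapOfInjective e.toMonoidHom e.injective)
  have hK : Nat.card K = 60 * c := by
    rw [← Nat.card_congr eL.toEquiv, hcard, hc]; ring
  rcases perm_six_big (K := K) ⟨c, hK⟩ (fun h => hne4 (by rw [hK] at h; rw [hc]; omega)) with h | h | h
  · refine Or.inl (le_antisymm hL fun g hg => ?_)
    have : e ⟨g, hg⟩ ∈ K := h ▸ Subgroup.mem_top _
    obtain ⟨x, hx, hxe⟩ := this
    rw [e.injective hxe] at hx
    exact hx
  · exact Or.inr (Or.inl ⟨eL.trans (MulEquiv.subgroupCongr h)⟩)
  · obtain ⟨i⟩ := exists_perm_five h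
    exact Or.inr (Or.inr ⟨eL.trans i⟩)

end Cfsg.Agent.Dye
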